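import Cfsg.Agent.Lib.SuzY.Setting
import Cfsg.Agent.Lib.SuzT.Classes

/-!
An element centralising `x` and carrying the central involution to a conjugate in the extraspecial
subgroup, and the intersection of `Q` with its conjugate at such an involution.
-/

set_option autoImplicit false
set_option linter.style.haveILetI false
set_option linter.unusedSectionVars false
set_option linter.unusedVariables false
set_option maxRecDepth 20000
set_option synthInstance.maxSize 4000
set_option synthInstance.maxHeartbeats 400000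

namespace Cfsg.Agent.SuzY

open Cfsg.Agent.SuzT Subgroup
open Cfsg.Agent.LargeExtra (mem_conjMap)
open Cfsg.Agent.CoFive (eq_one_of_pow)

local notation "F" => ZMod 2

theorem swap_counts : Nat.card {w : W // Perp (inW w)} = 4 := by
  rw [Nat.card_eq_fintype_card]; decide +kernel

variable {G : Type*} [Group G] [Finite G] {z : G} {Q : Subgroup G} {π : G → V} {ρ : G → V → V}

/-- The extraspecial subgroups at `z` and at an involution of it meet in a four-group. -/
theorem inter_conj (S : Su z Q π ρ) {m : G} (hm : m * z * m⁻¹ ∈ Q) (hne : m * z * m⁻¹ ≠ z) {d : G} :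
    d ∈ Q ⊓ Q.map (MulAut.conj m).toMonoidHom ↔
      d = 1 ∨ d = z ∨ d = m * z * m⁻¹ ∨ d = m * z * m⁻¹ * z := by
  set u := m * z * m⁻¹ with hu
  have hπ : π u ≠ 0 := fun e => by
    rcases (S.pi_eq u hm).1 e with e' | e'
    · exact (S.loc.conj m).ne_one e'
    · exact hne e'
  obtain ⟨h, hh, he⟩ := S.conj_singular (S.sing_of hm (S.loc.conj m).sq) hπ
  have hi := cinv S hh
  have hsQ : h⁻¹ * u * h ∈ Q := by simpa using S.conj_mem hi hm
  have X : Fr z Q π ρ (h⁻¹ * u * h) (h⁻¹ * m) := ⟨S, by rw [hu]; group, hsQ, S.rho_inj hh (by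
    rw [← S.conj h hh _ hsQ, show h * (h⁻¹ * u * h) * h⁻¹ = u by group, he])⟩
  have key : h⁻¹ * d * h ∈ Q ⊓ Q₁ Q (h⁻¹ * m) ↔ d ∈ Q ⊓ Q.map (MulAut.conj m).toMonoidHom := by
    rw [mem_inf, mem_inf, mem_conjMap, mem_conjMap,
      show (h⁻¹ * m)⁻¹ * (h⁻¹ * d * h) * (h⁻¹ * m) = m⁻¹ * d * m by group]
    refine and_congr_left fun _ => ⟨fun e => ?_, fun e => by simpa using S.conj_mem hi e⟩
    have := S.conj_mem hh e
    rwa [show h * (h⁻¹ * d * h) * h⁻¹ = d by group] at this
  rw [← key, X.mem_inter]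
  have hz : h⁻¹ * z * h = z := by rw [hi, inv_mul_cancel_right]
  have hc : ∀ e : G, h⁻¹ * d * h = h⁻¹ * e * h ↔ d = e := fun e =>
    ⟨fun e' => mul_left_cancel (mul_right_cancel e'), fun e' => by rw [e']⟩
  refine or_congr ?_ (or_congr ?_ (or_congr (hc u) ?_))
  · rw [← hc 1]; simp
  · rw [← hc z, hz]
  · rw [← hc (u * z), show h⁻¹ * (u * z) * h = h⁻¹ * u * h * (h⁻¹ * z * h) by group, hz]

theorem card_inter (S : Su z Q π ρ) {m : G} (hm : m * z * m⁻¹ ∈ Q) (hne : m * z * m⁻¹ ≠ z) :
    Nat.card ↥(Q ⊓ Q.map (MulAut.conj m).toMonoidHom) = 4 := by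
  classical
  set u := m * z * m⁻¹ with hu
  have e : ((Q ⊓ Q.map (MulAut.conj m).toMonoidHom : Subgroup G) : Set G) = ({1, z, u, u * z} : Finset G) := by
    ext d
    rw [SetLike.mem_coe, inter_conj S hm hne, ← hu]
    simp
  rw [← SetLike.coe_sort_coe, Nat.card_coe_set_eq, e, Set.ncard_coe_finset]
  have hu1 : u ≠ 1 := (S.loc.conj m).ne_one
  have huz : u * z ≠ 1 := fun h => hne ((mul_eq_one_iff_eq_inv.1 h).trans (inv_eq_of_mul_eq_one_right S.loc.sq))
  rw [Finset.card_insert_of_notMem, Finset.card_insert_of_notMem, Finset.card_pair]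
  · exact fun h => S.loc.ne_one (left_eq_mul.1 h)
  · simp only [Finset.mem_insert, Finset.mem_singleton, not_or]
    exact ⟨fun h => hne h.symm, fun h => hu1 (right_eq_mul.1 h)⟩
  · simp only [Finset.mem_insert, Finset.mem_singleton, not_or]
    exact ⟨S.loc.ne_one.symm, hu1.symm, huz.symm⟩

namespace Fy

variable {x : G} (Z : Fy z Q π ρ x) {s g : G} (X : Fr z Q π ρ s g)
include Z X

theorem x_s : x * s = s * x := (Z.mem_fix X.sQ).2 (X.se ▸ perp_facts.1)

/-- An element of the half at `s` with fixed parameter commutes with `x`. -/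
theorem half_comm {b : G} (hb : b ∈ hB z Q g) (hp : Perp (inW (vb ρ b))) : x * b = b * x := by
  have hxs := Z.x_s X
  obtain ⟨hb', hv'⟩ := X.conj_B Z.hz hxs hb
  rw [Z.rho, (rot_fix _).2 hp, wp_inW] at hv'
  have hd := X.B_diff hb hb' hv'.symm
  set d := b⁻¹ * (x * b * x⁻¹) with hd'
  have hxd : x * d = d * x := X.E_comm Z.hz hxs hd
  have hrec : ∀ k : ℕ, x ^ k * b * (x ^ k)⁻¹ = b * d ^ k := by
    intro k
    induction k with
    | zero => simp
    | succ k ih =>
      have hk : x * d ^ k = d ^ k * x := (Commute.pow_right hxd k).eq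
      calc x ^ (k + 1) * b * (x ^ (k + 1))⁻¹ = x * (x ^ k * b * (x ^ k)⁻¹) * x⁻¹ := by
            rw [pow_succ']; group
        _ = x * b * x⁻¹ * (x * d ^ k * x⁻¹) := by rw [ih]; group
        _ = b * d ^ (k + 1) := by
          rw [hk, mul_inv_cancel_right, pow_succ', ← mul_assoc b, hd', mul_inv_cancel_left]
  have h3 := hrec 3
  rw [Z.pow_three, inv_one, one_mul, mul_one, left_eq_mul] at h3
  have hd1 : d = 1 := eq_one_of_pow (m := 2) (n := 3) (by rw [pow_two]; exact X.E_inv hd) h3 (by norm_num)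
  rw [hd', inv_mul_eq_one] at hd1
  exact mul_inv_eq_iff_eq_mul.1 hd1.symm

/-- The element `x` centralises a subgroup of order 32 of the conjugate at `s`. -/
theorem card_fix_right : 32 ≤ Nat.card ↥(Q₁ Q g ⊓ centralizer ({x} : Set G)) := by
  classical
  haveI : Fact (Nat.Prime 3) := ⟨Nat.prime_three⟩
  have hxs := Z.x_s X
  set C := Q₁ Q g ⊓ centralizer ({x} : Set G) with hC
  choose b hb hbv using fun v : {w : W // Perp (inW w)} => X.exists_B v.1
  have hbC : ∀ v, b v ∈ C ⊓ centralizer ({z} : Set G) := fun v =>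
    ⟨⟨(hb v).1, mem_centralizer_singleton_iff.2
      (Z.half_comm X (hb v) ((hbv v).symm ▸ v.2)).symm⟩, (hb v).2⟩
  have hEC : ∀ c d, zb z c * zb s d ∈ C ⊓ centralizer ({z} : Set G) := fun c d =>
    ⟨⟨(X.zb_mem c d).2, mem_centralizer_singleton_iff.2 (X.E_comm Z.hz hxs (X.zb_mem c d)).symm⟩,
      mem_centralizer_singleton_iff.2 (X.S.Qz (X.zb_mem c d).1)⟩
  let φ : (F × F) × {w : W // Perp (inW w)} → ↥(C ⊓ centralizer ({z} : Set G)) :=
    fun p => ⟨b p.2 * (zb z p.1.1 * zb s p.1.2), mul_mem (hbC _) (hEC _ _)⟩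
  have h16 : 16 ≤ Nat.card ↥(C ⊓ centralizer ({z} : Set G)) := by
    have hinj : Function.Injective φ := by
      rintro ⟨⟨c, d⟩, v⟩ ⟨⟨c', d'⟩, v'⟩ e
      have e' : b v * (zb z c * zb s d) = b v' * (zb z c' * zb s d') := congrArg Subtype.val e
      have hmem : ∀ c d, zb z c * zb s d ∈ hB z Q g ∧ vb ρ (zb z c * zb s d) = 0 := fun c d =>
        ⟨(X.orth.inf_le (X.zb_mem c d)).2,
          (X.vb_eq_zero (X.orth.inf_le (X.zb_mem c d)).2).2 (X.zb_mem c d)⟩
      have hvv : v = v' := by
        have h := congrArg (vb ρ) e'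
        rw [X.vb_mul (hb v) (hmem c d).1, X.vb_mul (hb v') (hmem c' d').1, (hmem c d).2, (hmem c' d').2,
          hbv, hbv, add_zero, add_zero] at h
        exact Subtype.ext h
      subst hvv
      obtain ⟨h1, h2⟩ := X.zb_eq_one (c := c + c') (d := d + d') (by
        have h3 := mul_left_cancel e'
        calc zb z (c + c') * zb s (d + d') = zb z c * zb s d * (zb z c' * zb s d') := (X.zb_mul' c d c' d').symm
          _ = 1 := by rw [h3]; exact X.E_inv (X.zb_mem c' d'))
      have hF : ∀ a b : F, a + b = 0 → a = b := by decide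
      rw [hF _ _ h1, hF _ _ h2]
    have := Nat.card_le_card_of_injective φ hinj
    rw [Nat.card_prod, Nat.card_prod, Nat.card_zmod, swap_counts] at this
    exact this
  -- a fixed point outside the centraliser of `z`
  obtain ⟨u, huC, huz⟩ : ∃ u ∈ C, u * z ≠ z * u := by
    let α := {u : G // u ∈ Q₁ Q g ∧ u * z ≠ z * u}
    letI : Fintype α := Fintype.ofFinite α
    have hpres : ∀ {y u : G}, y * z = z * y → y * s = s * y → u ∈ Q₁ Q g ∧ u * z ≠ z * u →
        y * u * y⁻¹ ∈ Q₁ Q g ∧ y * u * y⁻¹ * z ≠ z * (y * u * y⁻¹) := by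
      intro y u hyz hys hu
      refine ⟨X.norm_Q₁ hys hu.1, fun e => hu.2 ?_⟩
      have hc : Commute (y⁻¹ * (y * u * y⁻¹) * y) z :=
        (((show Commute y z from hyz).inv_left).mul_left e).mul_left hyz
      rw [show y⁻¹ * (y * u * y⁻¹) * y = u by group] at hc
      exact hc.eq
    let σx : Equiv.Perm α :=
      { toFun := fun u => ⟨x * u.1 * x⁻¹, hpres Z.hz hxs u.2⟩
        invFun := fun u => ⟨x⁻¹ * u.1 * x⁻¹⁻¹, hpres (cinv Z.S Z.hz)
          ((show Commute x s from hxs).inv_left).eq u.2⟩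
        left_inv := fun u => Subtype.ext (by simp only; group)
        right_inv := fun u => Subtype.ext (by simp only; group) }
    have hα : Fintype.card α = 64 := by
      have h1 : Nat.card ↥(Q₁ Q g) = 128 := by
        rw [card_map_of_injective (MulAut.conj g).injective, Z.S.card]
      have h2 := X.card_B
      rw [← Nat.card_eq_fintype_card]
      have h3 := Set.ncard_sdiff_add_ncard_of_subset (s := ((hB z Q g : Subgroup G) : Set G))
        (t := ((Q₁ Q g : Subgroup G) : Set G)) (fun a ha => ha.1) (Set.toFinite _)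
      rw [← Nat.card_coe_set_eq, ← Nat.card_coe_set_eq, ← Nat.card_coe_set_eq,
        show Nat.card ((hB z Q g : Subgroup G) : Set G) = 64 from h2,
        show Nat.card ((Q₁ Q g : Subgroup G) : Set G) = 128 from h1] at h3
      rw [Nat.card_congr (Equiv.subtypeEquivRight (fun a => (by
        simp [mem_centralizer_singleton_iff] :
          (a ∈ Q₁ Q g ∧ a * z ≠ z * a) ↔ a ∈ ((Q₁ Q g : Set G) \ (hB z Q g : Set G)))))]
      change Nat.card ↥((Q₁ Q g : Set G) \ (hB z Q g : Set G)) = 64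
      omega
    obtain ⟨u, hu⟩ := Equiv.Perm.exists_fixed_point_of_prime (p := 3) (n := 1) (σ := σx)
      (by rw [hα]; norm_num) (Equiv.ext fun u => Subtype.ext (by
        show x * (x * (x * u.1 * x⁻¹) * x⁻¹) * x⁻¹ = u.1
        rw [show x * (x * (x * u.1 * x⁻¹) * x⁻¹) * x⁻¹ = (x * x * x) * u.1 * (x * x * x)⁻¹ by group,
          show x * x * x = 1 by rw [← Z.pow_three, pow_succ, pow_two], inv_one, one_mul, mul_one]))
    exact ⟨u.1, ⟨u.2.1, mem_centralizer_singleton_iff.2
      (mul_inv_eq_iff_eq_mul.1 (congrArg Subtype.val hu)).symm⟩, u.2.2⟩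
  let ψ : Bool × ↥(C ⊓ centralizer ({z} : Set G)) → ↥C := fun p =>
    ⟨(if p.1 then u else 1) * p.2.1, mul_mem (by split_ifs; exacts [huC, one_mem _]) p.2.2.1⟩
  have hψ : Function.Injective ψ := by
    rintro ⟨i, w⟩ ⟨j, w'⟩ e
    have e' : (if i then u else 1) * w.1 = (if j then u else 1) * w'.1 := congrArg Subtype.val e
    have hw := mem_centralizer_singleton_iff.1 w.2.2
    have hw' := mem_centralizer_singleton_iff.1 w'.2.2
    have hout : ∀ a b : G, a * z = z * a → b * z = z * b → u * a ≠ b := fun a b ha hb e => huz (by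
      have hc : Commute (u * a * a⁻¹) z := (show Commute (u * a) z by rw [e]; exact hb).mul_left
        (show Commute a z from ha).inv_left
      rw [mul_inv_cancel_right] at hc
      exact hc.eq)
    cases i <;> cases j <;> simp only [↓reduceIte, Bool.false_eq_true, one_mul] at e'
    · rw [Subtype.ext e']
    · exact absurd e'.symm (hout _ _ hw' hw)
    · exact absurd e' (hout _ _ hw hw')
    · rw [Subtype.ext (mul_left_cancel e')]
  have := Nat.card_le_card_of_injective ψ hψ
  rw [Nat.card_prod, Nat.card_eq_fintype_card (α := Bool), Fintype.card_bool] at this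
  omega

/-- An element centralising `x` that carries `z` to `s`. -/
theorem exists_n : ∃ n, n * x = x * n ∧ n * z * n⁻¹ = s := by
  have hxs := Z.x_s X
  set y := g⁻¹ * x * g with hy
  have hyz : y * z = z * y := by
    have h := hxs
    rw [← X.sconj] at h
    calc y * z = g⁻¹ * (x * (g * z * g⁻¹)) * g := by rw [hy]; group
      _ = g⁻¹ * (g * z * g⁻¹ * x) * g := by rw [h]
      _ = z * y := by rw [hy]; group
  have hy3 : orderOf y = 3 := by
    rw [hy, show g⁻¹ * x * g = MulAut.conj g⁻¹ x by simp, MulEquiv.orderOf_eq, Z.three]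
  have hm : (Q ⊓ centralizer ({y} : Set G)).map (MulAut.conj g).toMonoidHom =
      Q₁ Q g ⊓ centralizer ({x} : Set G) := by
    ext a
    rw [mem_conjMap, mem_inf, mem_inf, mem_conjMap, mem_centralizer_singleton_iff,
      mem_centralizer_singleton_iff]
    refine and_congr_right fun _ => ?_
    rw [hy, show g⁻¹ * a * g * (g⁻¹ * x * g) = g⁻¹ * (a * x) * g by group,
      show g⁻¹ * x * g * (g⁻¹ * a * g) = g⁻¹ * (x * a) * g by group, mul_left_inj, mul_right_inj]
  obtain ⟨h, hh, he⟩ := Z.conj_of_fix hyz hy3 (by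
    have := Z.card_fix_right X
    rwa [← hm, card_map_of_injective (MulAut.conj g).injective] at this)
  refine ⟨g * h⁻¹, ?_, ?_⟩
  · calc g * h⁻¹ * x = g * h⁻¹ * (h * y * h⁻¹) := by rw [he]
      _ = x * (g * h⁻¹) := by rw [hy]; group
  · rw [show g * h⁻¹ * z * (g * h⁻¹)⁻¹ = g * (h⁻¹ * z * h⁻¹⁻¹) * g⁻¹ by group,
      zpi Z.S (cinv Z.S hh), X.sconj]

end Fy

end Cfsg.Agent.SuzY
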