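import Cfsg.Agent.Lib.SuzY.Local
import Cfsg.Agent.Lib.SuzY.Swap
import Cfsg.Agent.Lib.Components.FStar

/-!
The centraliser of `x` modulo its group satisfies the hypothesis of unitary type U₄(3).
-/

set_option autoImplicit false
set_option linter.style.haveILetI false
set_option linter.unusedSectionVars false
set_option linter.unusedVariables false
set_option maxRecDepth 20000
set_option synthInstance.maxSize 4000
set_option synthInstance.maxHeartbeats 400000

namespace Cfsg.Agent.SuzY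

open Cfsg.Agent.SuzT Subgroup
open Cfsg.Agent.CoFive (eq_one_of_pow)

local notation "F" => ZMod 2

/-- The hypothesis of unitary type U₄(3). -/
def U43Like (K : Type*) [Group K] : Prop :=
  ∃ z : K, orderOf z = 2 ∧ ∃ H₁ H₂ : Subgroup (Subgroup.centralizer ({z} : Set K)),
    H₁ ⊔ H₂ = Subgroup.closure {x : Subgroup.centralizer ({z} : Set K) | Odd (orderOf x)} ∧
    (H₁.subgroupOf (H₁ ⊔ H₂)).Normal ∧ (H₂.subgroupOf (H₁ ⊔ H₂)).Normal ∧
    Nonempty (H₁ ≃* Matrix.SpecialLinearGroup (Fin 2) (ZMod 3)) ∧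
    Nonempty (H₂ ≃* Matrix.SpecialLinearGroup (Fin 2) (ZMod 3)) ∧
    (H₁ ⊓ H₂).map (Subgroup.subtype (Subgroup.centralizer ({z} : Set K))) = Subgroup.zpowers z ∧
    ∃ (Q : Subgroup (Subgroup.centralizer ({z} : Set K))) (_ : Q.Normal),
      Q = (Cfsg.pCore 2 ↥(H₁ ⊔ H₂)).map (Subgroup.subtype (H₁ ⊔ H₂)) ∧
      Cfsg.generalizedFittingSubgroup (Subgroup.centralizer ({z} : Set K)) = Q ∧
      (∃ g : K, (∃ hq : g * z * g⁻¹ ∈ Subgroup.centralizer ({z} : Set K),
        (⟨g * z * g⁻¹, hq⟩ : Subgroup.centralizer ({z} : Set K)) ∈ Q) ∧ g * z * g⁻¹ ≠ z) ∧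
      Nat.card ↥(Subgroup.centralizer ({z} : Set K)) = 2 ^ 7 * 3 ^ 2 ∧
      (∀ g : K, g * z * g⁻¹ ∈ Q.map (Subgroup.subtype (Subgroup.centralizer ({z} : Set K))) → g * z * g⁻¹ ≠ z →
        Nat.card ↥((Q.map (Subgroup.subtype (Subgroup.centralizer ({z} : Set K)))) ⊓
          (Q.map (Subgroup.subtype (Subgroup.centralizer ({z} : Set K)))).map (MulAut.conj g).toMonoidHom) = 4)

theorem normal_in_sup {C : Type*} [Group C] {A B : Subgroup C} (h : ∀ a ∈ A, ∀ b ∈ B, a * b = b * a) :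
    (A.subgroupOf (A ⊔ B)).Normal := by
  have hB : B ≤ normalizer (A : Set C) := fun b hb => by
    refine Subgroup.mem_normalizer_iff.2 fun a => ⟨fun ha => ?_, fun ha => ?_⟩
    · rwa [← h a ha b hb, mul_inv_cancel_right]
    · have := h _ ha b⁻¹ (inv_mem hb)
      rw [show a = b⁻¹ * (b * a * b⁻¹) * b by group, ← this, inv_mul_cancel_right]
      exact ha
  exact Subgroup.normal_subgroupOf_iff_le_normalizer le_sup_left |>.2 (sup_le le_normalizer hB)

variable {G : Type*} [Group G] [Finite G] {z : G} {Q : Subgroup G} {π : G → V} {ρ : G → V → V}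
  {x : G}

instance zpowers_subgroupOf_normal (b : G) :
    ((zpowers b).subgroupOf (centralizer ({b} : Set G))).Normal :=
  ⟨fun a ha y => by
    rw [mem_subgroupOf] at ha ⊢
    obtain ⟨i, hi⟩ := mem_zpowers_iff.1 ha
    have h : Commute (y : G) (a : G) := hi ▸ Commute.zpow_right (mem_centralizer_singleton_iff.1 y.2) i
    rw [Subgroup.coe_mul, Subgroup.coe_mul, InvMemClass.coe_inv, h.eq, mul_inv_cancel_right]
    exact ha⟩

theorem plane_ne : b1 ≠ 0 ∧ b1 ≠ a1 ∧ b2 ≠ 0 ∧ b2 ≠ a2 := by decide +kernel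

namespace Fy

variable (Z : Fy z Q π ρ x)
include Z

/-- The centraliser of the image of `z` in the quotient by the group of `x`. -/
theorem exists_equiv : ∃ (zK : ↥(centralizer ({x} : Set G)) ⧸ (zpowers x).subgroupOf (centralizer ({x} : Set G)))
    (hz : z ∈ centralizer ({x} : Set G)), zK = QuotientGroup.mk (⟨z, hz⟩ : centralizer ({x} : Set G)) ∧
    orderOf zK = 2 ∧
    ∃ e : ↥Z.cen0 ≃* ↥(centralizer ({zK} : Set (↥(centralizer ({x} : Set G)) ⧸
      (zpowers x).subgroupOf (centralizer ({x} : Set G))))),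
      ∀ c : Z.cen0, ∃ hc : (c : G) ∈ centralizer ({x} : Set G),
        (e c).1 =
          QuotientGroup.mk (⟨(c : G), hc⟩ : centralizer ({x} : Set G)) := by
  classical
  haveI : Fact (Nat.Prime 2) := ⟨Nat.prime_two⟩
  have S := Z.S
  set CB := centralizer ({x} : Set G) with hCB
  set Bc := (zpowers x).subgroupOf CB with hBc
  let K := CB ⧸ Bc
  let q' : CB →* K := QuotientGroup.mk' Bc
  have hc0 : ∀ c : Z.cen0, (c : G) ∈ CB := fun c => (Z.cen0_le c.2).2
  let j : Z.cen0 →* K := q'.comp (inclusion fun c hc => (Z.cen0_le hc).2)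
  have hxpow : ∀ {a : G}, a ∈ zpowers x → ∃ k : ℕ, x ^ k = a := fun ha => by
    obtain ⟨k, -, hk⟩ := Finset.mem_image.1 ((isOfFinOrder_of_finite x).mem_zpowers_iff_mem_range_orderOf.1 ha)
    exact ⟨k, hk⟩
  have hjinj : Function.Injective j := (injective_iff_map_eq_one j).2 fun c hc => by
    obtain ⟨k, hk⟩ := hxpow (mem_subgroupOf.1 ((QuotientGroup.eq_one_iff _).1 hc))
    have hk' : x ^ k = (c : G) := hk
    exact Subtype.ext (hk'.symm.trans (Z.x_pow_of_fix (hk' ▸ c.2)))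
  have hzc : z ∈ Z.cen0 := Z.U_le0 Z.z_mem_U
  set zK : K := j ⟨z, hzc⟩ with hzK
  have hzK1 : zK ≠ 1 := fun e => S.loc.ne_one (congrArg Subtype.val (hjinj (e.trans (map_one j).symm)))
  have hzz : zK * zK = 1 := by
    rw [hzK, ← map_mul, show (⟨z, hzc⟩ : Z.cen0) * ⟨z, hzc⟩ = 1 from Subtype.ext S.loc.sq, map_one]
  have hfac : ∀ h : K, h * zK = zK * h → ∃ c, j c = h := by
    intro h hh
    obtain ⟨y, rfl⟩ := QuotientGroup.mk'_surjective Bc h
    have hzB : z ∈ CB := (Z.cen0_le hzc).2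
    have h1 : y * ⟨z, hzB⟩ * y⁻¹ * (⟨z, hzB⟩ : CB)⁻¹ ∈ Bc := by
      refine (QuotientGroup.eq_one_iff _).1 ?_
      show q' (y * ⟨z, hzB⟩ * y⁻¹ * (⟨z, hzB⟩ : CB)⁻¹) = 1
      rw [map_mul, map_mul, map_mul, map_inv, map_inv, show q' ⟨z, hzB⟩ = zK from rfl]
      show q' y * zK * (q' y)⁻¹ * zK⁻¹ = 1
      rw [show q' y * zK = zK * q' y from hh, mul_inv_cancel_right, mul_inv_cancel]
    obtain ⟨k, hk⟩ := hxpow (mem_subgroupOf.1 h1)
    have hk' : (y : G) * z * (y : G)⁻¹ = x ^ k * z := by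
      rw [show x ^ k = (y : G) * z * (y : G)⁻¹ * z⁻¹ from hk]; group
    have hsq : x ^ k * x ^ k = 1 := by
      calc x ^ k * x ^ k = x ^ k * x ^ k * (z * z) := by rw [S.loc.sq, mul_one]
        _ = x ^ k * z * (x ^ k * z) := (show Commute (x ^ k) z from Z.x_z k).mul_mul_mul_comm _ _
        _ = (y : G) * (z * z) * (y : G)⁻¹ := by rw [← hk']; group
        _ = 1 := by rw [S.loc.sq]; group
    have hk1 : x ^ k = 1 := eq_one_of_pow (m := 2) (n := 3) (by rw [pow_two, hsq])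
      (by rw [← pow_mul, mul_comm, pow_mul, Z.pow_three, one_pow]) (by norm_num)
    rw [hk1, one_mul, mul_inv_eq_iff_eq_mul] at hk'
    obtain ⟨n, d, hd, hyd⟩ := Z.split (Z.mem_cen hk' (mem_centralizer_singleton_iff.1 y.2))
    refine ⟨⟨d, hd⟩, (QuotientGroup.eq (s := Bc)).2 (mem_subgroupOf.2 ?_)⟩
    show d⁻¹ * (y : G) ∈ zpowers x
    rw [hyd, inv_mul_cancel_left]
    exact Subgroup.npow_mem_zpowers x n
  have hjC : ∀ c, j c ∈ centralizer ({zK} : Set K) := fun c => mem_centralizer_singleton_iff.2 (by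
    rw [hzK, ← map_mul, ← map_mul]
    exact congrArg j (Subtype.ext (Z.z0 c.2)))
  let J : Z.cen0 →* centralizer ({zK} : Set K) := j.codRestrict _ hjC
  have hJ : Function.Bijective J := ⟨fun a b e => hjinj (congrArg Subtype.val e), fun h => by
    obtain ⟨c, hc⟩ := hfac h (mem_centralizer_singleton_iff.1 h.2)
    exact ⟨c, Subtype.ext hc⟩⟩
  exact ⟨zK, hc0 ⟨z, hzc⟩, rfl, orderOf_eq_prime (by rw [pow_two, hzz]) hzK1, MulEquiv.ofBijective J hJ,
    fun c => ⟨hc0 c, rfl⟩⟩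

/-- The quotient satisfies the hypothesis. -/
theorem u43Like {s g : G} (X : Fr z Q π ρ s g) :
    U43Like (↥(centralizer ({x} : Set G)) ⧸ (zpowers x).subgroupOf (centralizer ({x} : Set G))) := by
  classical
  haveI : Fact (Nat.Prime 2) := ⟨Nat.prime_two⟩
  have S := Z.S
  obtain ⟨qa, ta, qc, tb, T⟩ := Z.exists_two
  obtain ⟨zK, hzB, hzK, hord, e, he⟩ := Z.exists_equiv
  let Bc := (zpowers x).subgroupOf (centralizer ({x} : Set G))
  let K := ↥(centralizer ({x} : Set G)) ⧸ (zpowers x).subgroupOf (centralizer ({x} : Set G))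
  let A₀ := T.A.grp.subgroupOf Z.cen0
  let B₀ := T.B.grp.subgroupOf Z.cen0
  let U₀ := Z.U.subgroupOf Z.cen0
  let J₀ := T.J.subgroupOf Z.cen0
  set f := e.toMonoidHom with hf
  have hfi : Function.Injective f := e.injective
  have hUle : Z.U ≤ Z.cen0 := fun u hu => Z.U_le0 hu
  have hsup : A₀.map f ⊔ B₀.map f = J₀.map f := by
    rw [← Subgroup.map_sup, ← Subgroup.subgroupOf_sup T.A.grp_le T.B.grp_le]
  have hJ₀ : J₀ = closure {c : Z.cen0 | Odd (orderOf c)} := by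
    refine map_injective Z.cen0.subtype_injective ?_
    rw [MonoidHom.map_closure, map_subgroupOf_eq_of_le T.J_le, T.J_eq_closure]
    congr 1
    ext c
    constructor
    · rintro ⟨hc, ho⟩
      exact ⟨⟨c, hc⟩, by simpa using ho, rfl⟩
    · rintro ⟨⟨c, hc⟩, ho, rfl⟩
      exact ⟨hc, by simpa using ho⟩
  have hcomm : ∀ a ∈ A₀, ∀ b ∈ B₀, a * b = b * a := fun a ha b hb =>
    Subtype.ext (T.elem_comm (mem_subgroupOf.1 ha) (mem_subgroupOf.1 hb))
  have hcomm' : ∀ a ∈ A₀.map f, ∀ b ∈ B₀.map f, a * b = b * a := by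
    rintro _ ⟨a, ha, rfl⟩ _ ⟨b, hb, rfl⟩
    rw [← map_mul, ← map_mul, hcomm a ha b hb]
  -- the isomorphisms with `SL(2,3)`
  have hsl : ∀ {a b : V} {qa t : G} (P : Pl Z a b qa t), q a = 1 → bil a b = 1 → rot a b a = b →
      b ≠ 0 ∧ b ≠ a →
      Nonempty (↥((P.grp.subgroupOf Z.cen0).map f) ≃* Matrix.SpecialLinearGroup (Fin 2) (ZMod 3)) := by
    intro a b qa t P hq hb hab hne
    obtain ⟨e₁⟩ := P.equiv_sl hq hb hab hne
    exact ⟨((Subgroup.equivMapOfInjective _ f hfi).symm.trans (subgroupOfEquivOfLe P.grp_le)).trans e₁⟩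
  obtain ⟨-, -, -, h1, h2, h3, h4, h5, h6⟩ := plane_facts
  obtain ⟨-, -, r1, -, -, -, r3, -⟩ := rot_facts
  have hne : SuzY.b1 ≠ 0 ∧ SuzY.b1 ≠ a1 ∧ SuzY.b2 ≠ 0 ∧ SuzY.b2 ≠ a2 := plane_ne
  have hQn : (U₀.map f).Normal := by
    haveI : U₀.Normal := ⟨fun u hu c => mem_subgroupOf.2 (Z.U_normal c.2.1 (mem_subgroupOf.1 hu))⟩
    exact Subgroup.Normal.map inferInstance f e.surjective
  have hval : ∀ {c : G} (hc : c ∈ Z.cen0) (hc' : c ∈ centralizer ({x} : Set G)),
      ((f ⟨c, hc⟩ : centralizer ({zK} : Set K)) : K) = QuotientGroup.mk (⟨c, hc'⟩ : centralizer ({x} : Set G)) :=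
    fun {c} hc hc' => by obtain ⟨h, h'⟩ := he ⟨c, hc⟩; exact h'
  have hzf : ∀ hz0 : z ∈ Z.cen0, ((f ⟨z, hz0⟩ : centralizer ({zK} : Set K)) : K) = zK := fun hz0 => by
    rw [hval hz0 hzB, ← hzK]
  have hxk : ∀ {a : G}, a ∈ zpowers x → ∃ k : ℕ, x ^ k = a := fun ha => by
    obtain ⟨k, -, hk⟩ := Finset.mem_image.1 ((isOfFinOrder_of_finite x).mem_zpowers_iff_mem_range_orderOf.1 ha)
    exact ⟨k, hk⟩
  have hmk : ∀ (n : centralizer ({x} : Set G)), (QuotientGroup.mk n : K) * zK * (QuotientGroup.mk n : K)⁻¹ =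
      QuotientGroup.mk (n * ⟨z, hzB⟩ * n⁻¹) := fun n => by
    rw [hzK, ← QuotientGroup.mk_mul, ← QuotientGroup.mk_inv, ← QuotientGroup.mk_mul]
  -- elements of the image of `U`
  have hmemQ : ∀ h : K, h ∈ (U₀.map f).map (centralizer ({zK} : Set K)).subtype ↔
      ∃ (u : G) (hu : u ∈ centralizer ({x} : Set G)), u ∈ Z.U ∧ h = QuotientGroup.mk (⟨u, hu⟩ : centralizer ({x} : Set G)) := by
    intro h
    constructor
    · rintro ⟨_, ⟨⟨u, hu0⟩, hu, rfl⟩, rfl⟩
      exact ⟨u, hu0.1.2, mem_subgroupOf.1 hu, hval hu0 hu0.1.2⟩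
    · rintro ⟨u, hu', hu, rfl⟩
      exact ⟨_, mem_map_of_mem _ (show (⟨u, hUle hu⟩ : Z.cen0) ∈ U₀ from mem_subgroupOf.2 hu), hval (hUle hu) hu'⟩
  refine ⟨zK, hord, A₀.map f, B₀.map f, ?_, normal_in_sup hcomm', ?_, hsl T.A h1 h3 r1 ⟨hne.1, hne.2.1⟩,
    hsl T.B h4 h6 r3 ⟨hne.2.2.1, hne.2.2.2⟩, ?_, U₀.map f, hQn, ?_, ?_, ?_, ?_, ?_⟩
  · rw [hsup, hJ₀, MonoidHom.map_closure]
    congr 1
    ext h
    constructor
    · rintro ⟨c, hc, rfl⟩
      show Odd (orderOf (e c))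
      rwa [MulEquiv.orderOf_eq]
    · intro ho
      exact ⟨e.symm h, by
        show Odd (orderOf (e.symm h))
        rwa [MulEquiv.orderOf_eq], e.apply_symm_apply h⟩
  · rw [sup_comm]
    exact normal_in_sup fun b hb a ha => (hcomm' a ha b hb).symm
  · rw [← Subgroup.map_inf _ _ f hfi]
    refine le_antisymm ?_ (zpowers_le.2 ?_)
    · rintro _ ⟨_, ⟨⟨c, hc0⟩, hc, rfl⟩, rfl⟩
      rcases T.meet (mem_subgroupOf.1 hc.1) (mem_subgroupOf.1 hc.2) with h | h
      · rw [show (⟨c, hc0⟩ : Z.cen0) = 1 from Subtype.ext h, map_one]; exact one_mem _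
      · rw [show (⟨c, hc0⟩ : Z.cen0) = ⟨z, hUle Z.z_mem_U⟩ from Subtype.ext h]
        exact mem_zpowers_iff.2 ⟨1, by rw [zpow_one]; exact (hzf _).symm⟩
    · exact ⟨_, mem_map_of_mem _ (show (⟨z, hUle Z.z_mem_U⟩ : Z.cen0) ∈ A₀ ⊓ B₀ from
        ⟨mem_subgroupOf.2 (T.A.z_grp h1), mem_subgroupOf.2 (T.B.z_grp h4)⟩), hzf _⟩
  · have hQJ : U₀.map f ≤ A₀.map f ⊔ B₀.map f := by
      rw [hsup]; exact map_mono fun u hu => mem_subgroupOf.2 (T.U_le_J (mem_subgroupOf.1 hu))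
    have hcore : Cfsg.pCore 2 ↥(A₀.map f ⊔ B₀.map f) = (U₀.map f).subgroupOf (A₀.map f ⊔ B₀.map f) := by
      refine le_antisymm (sSup_le ?_) (le_sSup ⟨Subgroup.normal_subgroupOf, ?_⟩)
      · rintro N ⟨-, hN⟩ n hn
        obtain ⟨k, hk⟩ := hN ⟨n, hn⟩
        refine mem_subgroupOf.2 ?_
        obtain ⟨c, hc, hce⟩ : ((n : ↥(A₀.map f ⊔ B₀.map f)) : centralizer ({zK} : Set K)) ∈ J₀.map f :=
          hsup ▸ n.2
        rw [← hce]
        refine mem_map_of_mem f (mem_subgroupOf.2 (T.two_elt (mem_subgroupOf.1 hc) (n := k) ?_))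
        have hk' : (n : centralizer ({zK} : Set K)) ^ (2 ^ k) = 1 :=
          congrArg (fun t : N => ((t : ↥(A₀.map f ⊔ B₀.map f)) : centralizer ({zK} : Set K))) hk
        rw [← hce, ← map_pow, map_eq_one_iff f hfi] at hk'
        exact congrArg Subtype.val hk'
      · refine (IsPGroup.of_card (n := 5) ?_)
        rw [Nat.card_congr (subgroupOfEquivOfLe hQJ).toEquiv, card_map_of_injective hfi,
          Nat.card_congr (subgroupOfEquivOfLe hUle).toEquiv, Z.card_U]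
        norm_num
    rw [hcore, map_subgroupOf_eq_of_le hQJ]
  · rw [← Components.generalizedFitting_map_equiv e, T.fstar]
  · obtain ⟨n, hnx, hnz⟩ := Z.exists_n X
    have hn : n ∈ centralizer ({x} : Set G) := mem_centralizer_singleton_iff.2 hnx
    have hsU : s ∈ Z.U := Z.mem_U.2 ⟨X.sQ, X.se ▸ perp_facts.1⟩
    have hconj : QuotientGroup.mk (⟨n, hn⟩ : centralizer ({x} : Set G)) * zK *
        (QuotientGroup.mk (⟨n, hn⟩ : centralizer ({x} : Set G)))⁻¹ =
        ((f ⟨s, hUle hsU⟩ : centralizer ({zK} : Set K)) : K) := by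
      refine (hmk _).trans ((congrArg _ (Subtype.ext hnz)).trans (hval (hUle hsU) hsU.2).symm)
    refine ⟨_, ⟨hconj.symm ▸ (f ⟨s, hUle hsU⟩).2, ⟨⟨s, hUle hsU⟩, mem_subgroupOf.2 hsU, Subtype.ext hconj.symm⟩⟩,
      fun h => X.sne ?_⟩
    exact congrArg Subtype.val (hfi (Subtype.ext ((hconj.symm.trans h).trans (hzf (hUle Z.z_mem_U)).symm)))
  · rw [← Nat.card_congr e.toEquiv, Z.card_cen0]; norm_num
  · intro k hk hkne
    obtain ⟨⟨m, hm⟩, rfl⟩ := QuotientGroup.mk_surjective k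
    have hmx := mem_centralizer_singleton_iff.1 hm
    obtain ⟨u, hu', hu, hue⟩ := (hmemQ _).1 hk
    -- the lift conjugates `z` to `u`
    have hpow : ∀ {a b : G}, a ∈ centralizer ({x} : Set G) → a⁻¹ * b ∈ zpowers x → a ^ 4 = 1 → b ^ 4 = 1 → a = b := by
      intro a b ha hab ha4 hb4
      obtain ⟨i, hi⟩ := hxk hab
      have hb : b = a * x ^ i := by rw [hi, mul_inv_cancel_left]
      have h4 : (x ^ i) ^ 4 = 1 := by
        rw [hb, ((show Commute a x from mem_centralizer_singleton_iff.1 ha).pow_right i).mul_pow, ha4,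
          one_mul] at hb4
        exact hb4
      rw [hb, eq_one_of_pow h4 (by rw [← pow_mul, mul_comm, pow_mul, Z.pow_three, one_pow] : (x ^ i) ^ 3 = 1)
        (by norm_num), mul_one]
    have hzm : m * z * m⁻¹ = u := by
      rw [hmk, eq_comm, QuotientGroup.eq] at hue
      exact (hpow hu' (mem_subgroupOf.1 hue) (four_pow S hu.1) (by
        show (m * z * m⁻¹) ^ 4 = 1
        rw [conj_pow, four_pow S S.loc.mem, mul_one, mul_inv_cancel])).symm
    have hne' : m * z * m⁻¹ ≠ z := fun h => hkne (by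
      exact (hmk _).trans ((congrArg _ (Subtype.ext h)).trans hzK.symm))
    have hin : Q ⊓ Q.map (MulAut.conj m).toMonoidHom ≤ centralizer ({x} : Set G) := fun d hd => by
      have hu_x : Commute (m * z * m⁻¹) x := hzm ▸ mem_centralizer_singleton_iff.1 hu'
      rw [mem_centralizer_singleton_iff]
      rcases (inter_conj S (hzm ▸ hu.1) hne').1 hd with rfl | rfl | rfl | rfl
      · simp
      · exact Z.hz.symm
      · exact hu_x.eq
      · exact (hu_x.mul_left (Z.hz.symm : Commute z x)).eq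
    let D : Subgroup G := Q ⊓ Q.map (MulAut.conj m).toMonoidHom
    let ι : D →* K := (QuotientGroup.mk' Bc).comp (inclusion hin)
    have hι : Function.Injective ι := (injective_iff_map_eq_one ι).2 fun d hd => by
      have h1 := mem_subgroupOf.1 ((QuotientGroup.eq_one_iff _).1 hd)
      exact Subtype.ext (hpow (one_mem _) (by simpa using h1) (one_pow 4) (four_pow S d.2.1)).symm
    have hrange : ι.range = (U₀.map f).map (centralizer ({zK} : Set K)).subtype ⊓
        ((U₀.map f).map (centralizer ({zK} : Set K)).subtype).map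
          (MulAut.conj (QuotientGroup.mk (⟨m, hm⟩ : centralizer ({x} : Set G)) : K)).toMonoidHom := by
      ext h
      constructor
      · rintro ⟨⟨d, hd⟩, rfl⟩
        obtain ⟨w, hw, hwd⟩ := hd.2
        have hwd' : m * w * m⁻¹ = d := hwd
        have hwx : w ∈ centralizer ({x} : Set G) := by
          rw [show w = m⁻¹ * d * m by rw [← hwd']; group]
          exact mul_mem (mul_mem (inv_mem hm) (hin hd)) hm
        refine ⟨(hmemQ _).2 ⟨d, hin hd, ⟨hd.1, hin hd⟩, rfl⟩,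
          _, (hmemQ _).2 ⟨w, hwx, ⟨hw, hwx⟩, rfl⟩, ?_⟩
        exact congrArg (fun t : centralizer ({x} : Set G) => (t : K)) (Subtype.ext hwd')
      · rintro ⟨h1, h', h2, h3⟩
        obtain ⟨a, ha', ha, rfl⟩ := (hmemQ _).1 h1
        obtain ⟨b, hb', hb, rfl⟩ := (hmemQ _).1 h2
        have h3' : (QuotientGroup.mk ((⟨m, hm⟩ : centralizer ({x} : Set G)) * ⟨b, hb'⟩ * (⟨m, hm⟩ : centralizer ({x} : Set G))⁻¹) : K) =
            QuotientGroup.mk (⟨a, ha'⟩ : centralizer ({x} : Set G)) := h3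
        have hab : a = m * b * m⁻¹ := hpow ha' (mem_subgroupOf.1 (QuotientGroup.eq.1 h3'.symm))
          (four_pow S ha.1) (by rw [conj_pow, four_pow S hb.1, mul_one, mul_inv_cancel])
        exact ⟨⟨a, ha.1, ⟨b, hb.1, hab.symm⟩⟩, rfl⟩
    rw [← hrange, ← Nat.card_congr (MonoidHom.ofInjective hι).toEquiv]
    exact card_inter S (hzm ▸ hu.1) hne'

end Fy

end Cfsg.Agent.SuzY
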