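import Cfsg.Agent.Lib.U43T.PE

/-!
In a group of unitary type U₄(3) a long element of order three is a commutator of two elements of its
centraliser: one in the elementary group of order 81, the other a word in the two elements cycling the
two four-groups.
-/

set_option autoImplicit false
set_option linter.unusedSectionVars false
set_option linter.style.haveILetI false
set_option maxRecDepth 20000

namespace Cfsg.Agent.SuzY

open Cfsg.Agent.U43T

/-- Coordinates of the elementary group. -/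
abbrev Co := Fin 3 × Fin 3 × Fin 3 × Fin 3

/-- Scalar multiple. -/
def sc (c : Fin 3) (v : Co) : Co := (c * v.1, c * v.2.1, c * v.2.2.1, c * v.2.2.2)

/-- The linear map with given images of the four generators. -/
def lin (a b c d : Co) (v : Co) : Co := sc v.1 a + sc v.2.1 b + (sc v.2.2.1 c + sc v.2.2.2 d)

/-- The first cycling map. -/
def mN : Co → Co := lin (1, 0, 0, 0) (0, 0, 1, 0) (0, 0, 0, 1) (0, 1, 0, 0)

/-- The second cycling map, for `T' = T ^ k * S ^ l` and `S' = T ^ k' * S ^ l'`. -/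
def mM (k l k' l' : Fin 3) : Co → Co :=
  let D := k * l' - k' * l
  lin (0, 0, k, l) (0, 1, 0, 0) (sc (l' * D) (0, 0, k', l') + sc (-(l * D)) (1, 0, 0, 0))
    (sc (-(k' * D)) (0, 0, k', l') + sc (k * D) (1, 0, 0, 0))

/-- The composite along a word. -/
def mW (k l k' l' : Fin 3) : List Bool → Co → Co
  | [], v => v
  | true :: w, v => mN (mW k l k' l' w v)
  | false :: w, v => mM k l k' l' (mW k l k' l' w v)

/-- The words used. -/
def wordList : List (List Bool) :=
  [[false, false, true, false], [false, true, false, false], [true, false, true, true], [true, true, false, true]]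

theorem word_exists : ∀ k l k' l' : Fin 3, k ≠ 0 → l ≠ 0 → k' ≠ 0 → l' ≠ 0 → k * l' ≠ k' * l →
    ∃ w ∈ wordList, mW k l k' l' w (2, 2, 0, 0) = (2, 2, 0, 0) ∧
      ∃ v ∈ ([(0, 0, 1, 0), (0, 0, 0, 1)] : List Co),
        mW k l k' l' w v = v + (2, 2, 0, 0) ∨ mW k l k' l' w v = v + (1, 1, 0, 0) := by decide +kernel

theorem mM_spec : ∀ k l k' l' : Fin 3, k * l' ≠ k' * l →
    mM k l k' l' (1, 0, 0, 0) = (0, 0, k, l) ∧ mM k l k' l' (0, 1, 0, 0) = (0, 1, 0, 0) ∧
    mM k l k' l' (0, 0, k, l) = (0, 0, k', l') ∧ mM k l k' l' (0, 0, k', l') = (1, 0, 0, 0) ∧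
    sc (l' * (k * l' - k' * l)) (0, 0, k, l) + sc (-(l * (k * l' - k' * l))) (0, 0, k', l') = ((0, 0, 1, 0) : Co) ∧
    sc (-(k' * (k * l' - k' * l))) (0, 0, k, l) + sc (k * (k * l' - k' * l)) (0, 0, k', l') = ((0, 0, 0, 1) : Co) := by
  decide +kernel

theorem co_code : mulH (mulH 150 150) (mulH 153 153) = 144 ∧ mulH (mulH 150 288) 576 = 1014 ∧
    alphaH 153 = 150 ∧ alphaH 12 = 12 := by decide +kernel

variable {G : Type*} [Group G] [Finite G] {z z₀ : G} {F : Frame z}

theorem coord_add (C : Cycle F) (S : Setting z₀) (a b : Co) : C.coord (a + b) = C.coord a * C.coord b := by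
  have cc : ∀ {a b : G}, a ∈ F.esub → b ∈ F.esub → Commute a b := fun ha hb => C.esub_comm S ha hb
  have hu := F.psub_le_esub (Cycle.u_mem (F := F))
  have hxm := F.psub_le_esub (Cycle.x_mem (F := F))
  have ht := C.xt_mem_esub S
  have hs := C.xs_mem_esub S
  have e : ∀ {y : G} (_ : y * y * y = 1) (p q : Fin 3), y ^ ((p + q : Fin 3) : ℕ) = y ^ (p : ℕ) * y ^ (q : ℕ) :=
    fun hy p q => by rw [← pow_add, Cycle.pow_mod_three hy ((p : ℕ) + q), Fin.val_add]
  simp only [Cycle.coord, Prod.fst_add, Prod.snd_add]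
  rw [e F.u_code.1, e F.uty_153.1, e C.uty_xt.1, e C.uty_xs.1,
    (cc (pow_mem hu _) (pow_mem hxm _) : Commute (F.f 150 ^ (b.1 : ℕ)) (F.f 153 ^ (a.2.1 : ℕ))).mul_mul_mul_comm,
    (cc (pow_mem ht _) (pow_mem hs _) : Commute (C.xt ^ (b.2.2.1 : ℕ)) (C.xs ^ (a.2.2.2 : ℕ))).mul_mul_mul_comm,
    (cc (mul_mem (pow_mem hu _) (pow_mem hxm _)) (mul_mem (pow_mem ht _) (pow_mem hs _)) :
      Commute (F.f 150 ^ (b.1 : ℕ) * F.f 153 ^ (b.2.1 : ℕ))
        (C.xt ^ (a.2.2.1 : ℕ) * C.xs ^ (a.2.2.2 : ℕ))).mul_mul_mul_comm]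

theorem coord_units (C : Cycle F) : C.coord (0 : Co) = 1 ∧ C.coord (1, 0, 0, 0) = F.f 150 ∧
    C.coord (0, 1, 0, 0) = F.f 153 ∧ C.coord (0, 0, 1, 0) = C.xt ∧ C.coord (0, 0, 0, 1) = C.xs := by
  simp [Cycle.coord]

theorem coord_sc (C : Cycle F) (S : Setting z₀) (c : Fin 3) (v : Co) : C.coord (sc c v) = C.coord v ^ (c : ℕ) := by
  have h2 : ∀ v : Co, sc 0 v = 0 ∧ sc 1 v = v ∧ sc 2 v = v + v := by decide +kernel
  obtain rfl | rfl | rfl : c = 0 ∨ c = 1 ∨ c = 2 :=
    (show ∀ c : Fin 3, c = 0 ∨ c = 1 ∨ c = 2 by decide) c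
  · rw [(h2 v).1, (coord_units C).1, show ((0 : Fin 3) : ℕ) = 0 from rfl, pow_zero]
  · rw [(h2 v).2.1]; exact (pow_one _).symm
  · rw [(h2 v).2.2, coord_add C S]; exact (pow_two _).symm

theorem acts_lin (C : Cycle F) (S : Setting z₀) {g : G} {a b c d : Co}
    (h1 : g * F.f 150 * g⁻¹ = C.coord a) (h2 : g * F.f 153 * g⁻¹ = C.coord b)
    (h3 : g * C.xt * g⁻¹ = C.coord c) (h4 : g * C.xs * g⁻¹ = C.coord d) (v : Co) :
    g * C.coord v * g⁻¹ = C.coord (lin a b c d v) := by
  rw [C.conj_coord, h1, h2, h3, h4, lin, coord_add C S, coord_add C S, coord_add C S, coord_sc C S,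
    coord_sc C S, coord_sc C S, coord_sc C S]

/-- Conjugation by `g` has the given matrix. -/
theorem acts_word (C : Cycle F) {n m : G} {k l k' l' : Fin 3}
    (hn : ∀ v, n * C.coord v * n⁻¹ = C.coord (mN v))
    (hm : ∀ v, m * C.coord v * m⁻¹ = C.coord (mM k l k' l' v)) :
    ∀ w : List Bool, ∃ g : G, ∀ v, g * C.coord v * g⁻¹ = C.coord (mW k l k' l' w v) := by
  intro w
  induction w with
  | nil => exact ⟨1, fun v => by simp [mW]⟩
  | cons b w ih =>
    obtain ⟨g, hg⟩ := ih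
    cases b
    · exact ⟨m * g, fun v => by
        rw [show m * g * C.coord v * (m * g)⁻¹ = m * (g * C.coord v * g⁻¹) * m⁻¹ by group, hg, hm]; rfl⟩
    · exact ⟨n * g, fun v => by
        rw [show n * g * C.coord v * (n * g)⁻¹ = n * (g * C.coord v * g⁻¹) * n⁻¹ by group, hg, hn]; rfl⟩

theorem inv_eq_self {y : G} (h : y * y * y = 1) (h' : y⁻¹ = y) : y = 1 := by
  have h2 : y * y = 1 := by
    have := inv_mul_cancel y
    rwa [h'] at this
  rwa [h2, one_mul] at h

/-- The cycling element returns the third generator to the first. -/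
theorem n_xs (C : Cycle F) : C.n * C.xs * C.n⁻¹ = F.f 153 := by
  set m := C.n * (C.n * C.n) with hm
  have hmz : Commute m z := by
    refine conj_eq_iff_commute.1 ?_
    rw [hm, show C.n * (C.n * C.n) * z * (C.n * (C.n * C.n))⁻¹ =
      C.n * (C.n * (C.n * z * C.n⁻¹) * C.n⁻¹) * C.n⁻¹ by group, C.nz, C.nt, C.ns]
  have hmt : Commute m (F.f 576) := by
    refine conj_eq_iff_commute.1 ?_
    rw [hm, show C.n * (C.n * C.n) * F.f 576 * (C.n * (C.n * C.n))⁻¹ =
      C.n * (C.n * (C.n * F.f 576 * C.n⁻¹) * C.n⁻¹) * C.n⁻¹ by group, C.nt, C.ns, C.nz]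
  have hmu : Commute m (F.f 150) := C.nu.mul_left (C.nu.mul_left C.nu)
  have hX : C.n * C.xs * C.n⁻¹ = m * F.f 153 * m⁻¹ := by
    rw [hm, Cycle.xs, Cycle.xt]; group
  have hT : C.n * (C.n * C.xs * C.n⁻¹) * C.n⁻¹ = m * C.xt * m⁻¹ := by
    rw [hm, Cycle.xs, Cycle.xt]; group
  rw [hX]
  obtain ⟨a, ha, e⟩ := F.surj m hmz
  have hc := cent_four ⟨a, ha⟩ ((F.commute_iff ha (by norm_num)).1 (e ▸ hmu))
    ((F.commute_iff ha (by norm_num)).1 (e ▸ hmt))
  simp only [List.mem_cons, List.not_mem_nil, or_false] at hc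
  -- `m` is one of the four involutions times a power of `u`
  obtain ⟨h, i, hh, hmh⟩ : ∃ (h : G) (i : ℕ),
      (h = 1 ∨ h = z ∨ h = F.f 576 ∨ h = F.f 588) ∧ m = h * F.f 150 ^ i := by
    have hh : ∀ {k : ℕ}, (k = 0 ∨ k = 12 ∨ k = 576 ∨ k = 588) →
        (F.f k = 1 ∨ F.f k = z ∨ F.f k = F.f 576 ∨ F.f k = F.f 588) := by
      rintro k (rfl | rfl | rfl | rfl)
      exacts [Or.inl F.f0, Or.inr (Or.inl F.fz), Or.inr (Or.inr (Or.inl rfl)), Or.inr (Or.inr (Or.inr rfl))]
    have hu3 : F.f 150 ^ 3 = 1 := by rw [pow_succ, pow_two]; exact F.u_code.1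
    rcases hc with h | h | h
    · exact ⟨m, 0, e ▸ hh h, by rw [pow_zero, mul_one]⟩
    · refine ⟨F.f (mulH a 150), 2, hh h, ?_⟩
      rw [F.mul _ _ ha (by norm_num), e, mul_assoc, ← pow_succ', hu3, mul_one]
    · refine ⟨F.f (mulH a 225), 1, hh h, ?_⟩
      rw [F.mul _ _ ha (by norm_num), e, show (225 : ℕ) = mulH 150 150 by decide +kernel,
        F.mul _ _ (by norm_num) (by norm_num), pow_one, mul_assoc, F.u_code.1, mul_one]
  have huX : Commute (F.f 150 ^ i) (F.f 153) := (F.psub_comm Cycle.u_mem Cycle.x_mem).pow_left i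
  have huT : Commute (F.f 150 ^ i) C.xt := by
    have : Commute (F.f 150) C.xt :=
      Commute.symm (show Commute C.xt (F.f 150) from C.Ft.psub_comm C.xt_mem C.u_mem_ft)
    exact this.pow_left i
  have hcX : m * F.f 153 * m⁻¹ = h * F.f 153 * h⁻¹ := by
    rw [hmh, show h * F.f 150 ^ i * F.f 153 * (h * F.f 150 ^ i)⁻¹ =
      h * (F.f 150 ^ i * F.f 153 * (F.f 150 ^ i)⁻¹) * h⁻¹ by group, conj_eq_iff_commute.2 huX]
  rw [hcX]
  rcases hh with rfl | rfl | rfl | rfl
  · group
  · exact conj_eq_iff_commute.2 (F.comm 153 (by norm_num)).symm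
  all_goals exfalso
  · have h1 : C.n * C.xs * C.n⁻¹ = (F.f 153)⁻¹ := by rw [hX, hcX, Cycle.x153_rel.1]
    rw [h1, ← conj_inv] at hT
    rw [hmh, show F.f 576 * F.f 150 ^ i * C.xt * (F.f 576 * F.f 150 ^ i)⁻¹ =
      F.f 576 * (F.f 150 ^ i * C.xt * (F.f 150 ^ i)⁻¹) * (F.f 576)⁻¹ by group,
      conj_eq_iff_commute.2 huT, conj_eq_iff_commute.2 C.xt_rel.2.2.symm] at hT
    exact C.uty_xt.2.1 (inv_eq_self C.uty_xt.1 hT)
  · -- the third generator would be both fixed and inverted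
    have h1 : C.n * C.xs * C.n⁻¹ = (F.f 153)⁻¹ := by rw [hX, hcX, Cycle.x153_rel.2]
    have h2 : C.n * (C.n * (C.n * C.xs * C.n⁻¹) * C.n⁻¹) * C.n⁻¹ = m * C.xs * m⁻¹ := by
      rw [hm, Cycle.xs, Cycle.xt]; group
    rw [h1, ← conj_inv, ← conj_inv] at h2
    have huS : Commute (F.f 150 ^ i) C.xs := by
      have hu : Commute (F.f 150) C.xs := by
        have h := C.conj_n_commute (show Commute (F.f 150) C.xt from
          Commute.symm (show Commute C.xt (F.f 150) from C.Ft.psub_comm C.xt_mem C.u_mem_ft))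
        rw [conj_eq_iff_commute.2 C.nu] at h
        exact h
      exact hu.pow_left i
    rw [hmh, show F.f 588 * F.f 150 ^ i * C.xs * (F.f 588 * F.f 150 ^ i)⁻¹ =
      F.f 588 * (F.f 150 ^ i * C.xs * (F.f 150 ^ i)⁻¹) * (F.f 588)⁻¹ by group,
      conj_eq_iff_commute.2 huS, conj_eq_iff_commute.2 C.xs_rel.2.2.symm] at h2
    exact C.uty_xs.2.1 (inv_eq_self C.uty_xs.1 h2)

theorem esub_twist : F.twist.esub = F.esub := by
  ext x
  rw [F.twist.mem_esub, F.mem_esub]
  refine and_congr_left fun _ => ?_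
  rw [F.twist.mem_cp, F.mem_cp, F.twist_f, F.twist_f, Frame.twist_vals.2.2.1, Frame.twist_vals.2.2.2]
  refine and_congr_right fun _ => ?_
  rw [show (9 : ℕ) = mulH 6 6 by decide +kernel, F.mul _ _ (by norm_num) (by norm_num)]
  refine ⟨fun h => ?_, fun h => h.mul_right h⟩
  have h6 : F.f 6 * F.f 6 * F.f 6 = 1 := F.cube_of_code (by norm_num) (by decide +kernel)
  have e : F.f 6 = F.f 6 * F.f 6 * (F.f 6 * F.f 6) := by
    calc F.f 6 = F.f 6 * F.f 6 * F.f 6 * F.f 6 := by rw [h6, one_mul]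
      _ = _ := by group
  rw [e]
  exact h.mul_right h

/-- A long element of order three is a commutator of two elements of its centraliser. -/
theorem exists_commutator (S : Setting z₀) (F : Frame z) : ∃ e g : G, Commute e (F.f 144) ∧
    Commute g (F.f 144) ∧ (g * e * g⁻¹ * e⁻¹ = F.f 144 ∨ g * e * g⁻¹ * e⁻¹ = (F.f 144)⁻¹) := by
  obtain ⟨C⟩ := S.exists_cycle F
  obtain ⟨C'⟩ := S.exists_cycle F.twist
  obtain ⟨c1, c2, c3, c4⟩ := co_code
  obtain ⟨u0, u1, u2, u3, u4⟩ := coord_units C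
  have hn : ∀ v, C.n * C.coord v * C.n⁻¹ = C.coord (mN v) :=
    acts_lin C S (by rw [u1]; exact conj_eq_iff_commute.2 C.nu) (by rw [u3]; rfl) (by rw [u4]; rfl)
      (by rw [u2]; exact n_xs C)
  -- the twisted generators
  have e150 : F.twist.f 150 = F.f 153 := by rw [F.twist_f, Frame.twist_vals.1]
  have e153 : F.twist.f 153 = F.f 150 := by rw [F.twist_f, c3]
  have hT'E : C'.xt ∈ F.esub := esub_twist (F := F) ▸ C'.xt_mem_esub S
  have hS'E : C'.xs ∈ F.esub := esub_twist (F := F) ▸ C'.xs_mem_esub S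
  obtain ⟨k, l, hT'⟩ := C.inverted_coord S hT'E C'.xt_rel.2.1
  obtain ⟨k', l', hS'⟩ := C.inverted_coord S hS'E C'.xs_rel.1
  have hcoT : C'.xt = C.coord (0, 0, k, l) := by rw [hT']; simp [Cycle.coord]
  have hcoS : C'.xs = C.coord (0, 0, k', l') := by rw [hS']; simp [Cycle.coord]
  have hw : F.twist.f 576 = F.f 150 * F.f 288 * F.f 576 := by
    rw [F.twist_f, Frame.twist_vals.2.1, ← c2, F.mul _ _ (mulH_lt _ _) (by norm_num), F.mul _ _ (by norm_num) (by norm_num)]
  have hswap : ∀ {y : G}, y ∈ F.esub → z * y * z⁻¹ = y⁻¹ → y ≠ 1 →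
      (Commute y (F.twist.f 576) ∨ Commute y (F.twist.f 588)) →
      ¬ Commute y (F.f 576) ∧ ¬ Commute y (F.f 588) := by
    intro y hy hyz hy1 hwy
    have huy : Commute y (F.f 150) := C.esub_comm S hy (F.psub_le_esub Cycle.u_mem)
    have h3 : y * y * y = 1 := C.esub_cube S hy
    have hfix : ¬ Commute y z := fun h => hy1 (inv_eq_self h3 (by
      rw [← hyz, conj_eq_iff_commute.2 h.symm]))
    -- both twisted involutions act on `y` as `f 288 * f 576`, up to `z`
    have key : ∀ h : G, Commute y h → (h = F.f 576 ∨ h = F.f 588) → ∀ v : G, (v = 1 ∨ v = z) →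
        Commute y (v * (F.f 150 * F.f 288 * F.f 576)) → False := by
      intro h hyh hh v hv hyv
      have h5 : y * y = 1 ∨ Commute y z := by
        have e2 := conj_eq_iff_commute.2 hyv.symm
        rcases hh with rfl | rfl
        · rw [show v * (F.f 150 * F.f 288 * F.f 576) * y * (v * (F.f 150 * F.f 288 * F.f 576))⁻¹ =
            v * (F.f 150 * (F.f 288 * (F.f 576 * y * (F.f 576)⁻¹) * (F.f 288)⁻¹) * (F.f 150)⁻¹) * v⁻¹ by group,
            conj_eq_iff_commute.2 hyh.symm] at e2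
          -- `f 288` carries the fixed elements of `f 576` to those of `f 588`
          have h6 : Commute (F.f 288 * y * (F.f 288)⁻¹) (F.f 588) := by
            have := (hyh.map (MulAut.conj (F.f 288)))
            simp only [MulAut.conj_apply] at this
            rwa [Cycle.t_swap] at this
          have hu' : Commute (F.f 150) (F.f 288 * y * (F.f 288)⁻¹) := by
            have hm : F.f 288 * y * (F.f 288)⁻¹ ∈ F.esub :=
              F.esub_conj (a := F.f 288) (fun p hp => (Cycle.tau_psub (F := F) hp).2) hy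
            exact C.esub_comm S (F.psub_le_esub Cycle.u_mem) hm
          rw [conj_eq_iff_commute.2 hu'] at e2
          have hv8 : Commute v (F.f 588) := by
            rcases hv with rfl | rfl
            exacts [Commute.one_left _, (F.comm 588 (by norm_num)).symm]
          have h7 : Commute y (F.f 588) := by
            rw [← e2]
            exact (hv8.mul_left h6).mul_left hv8.inv_left
          rw [F.f588.1] at h7
          exact Or.inr (by simpa using h7.mul_right hyh.inv_right)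
        · have h7 : F.f 576 * y * (F.f 576)⁻¹ = y⁻¹ := by
            have e7 : F.f 576 * y * (F.f 576)⁻¹ = z⁻¹ * (F.f 588 * y * (F.f 588)⁻¹) * z := by
              rw [F.f588.1]; group
            rw [e7, conj_eq_iff_commute.2 hyh.symm, F.centre_inv]
            conv_lhs => rw [← inv_inv z, F.centre_inv]
            rw [F.centre_inv] at hyz ⊢
            exact hyz
          rw [show v * (F.f 150 * F.f 288 * F.f 576) * y * (v * (F.f 150 * F.f 288 * F.f 576))⁻¹ =
            v * (F.f 150 * (F.f 288 * (F.f 576 * y * (F.f 576)⁻¹) * (F.f 288)⁻¹) * (F.f 150)⁻¹) * v⁻¹ by group,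
            h7] at e2
          have h6 : Commute (F.f 288 * y⁻¹ * (F.f 288)⁻¹) (F.f 576) := by
            have := (hyh.inv_left.map (MulAut.conj (F.f 288)))
            simp only [MulAut.conj_apply] at this
            have e8 : F.f 288 * F.f 588 * (F.f 288)⁻¹ = F.f 576 := by
              rw [← F.f_cjH (by norm_num) (by norm_num), tau_vals.2.1]
            rwa [e8] at this
          have hu' : Commute (F.f 150) (F.f 288 * y⁻¹ * (F.f 288)⁻¹) := by
            have hm : F.f 288 * y⁻¹ * (F.f 288)⁻¹ ∈ F.esub :=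
              F.esub_conj (a := F.f 288) (fun p hp => (Cycle.tau_psub (F := F) hp).2) (inv_mem hy)
            exact C.esub_comm S (F.psub_le_esub Cycle.u_mem) hm
          rw [conj_eq_iff_commute.2 hu'] at e2
          have hv8 : Commute v (F.f 576) := by
            rcases hv with rfl | rfl
            exacts [Commute.one_left _, (F.comm 576 (by norm_num)).symm]
          have h9 : Commute y (F.f 576) := by
            rw [← e2]
            exact (hv8.mul_left h6).mul_left hv8.inv_left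
          rw [conj_eq_iff_commute.2 h9.symm] at h7
          exact Or.inl (by conv_lhs => arg 1; rw [h7]
                           exact inv_mul_cancel y)
      rcases h5 with h5 | h5
      · exact hy1 (inv_eq_self h3 (inv_eq_of_mul_eq_one_right h5))
      · exact hfix h5
    have hv : ∃ v : G, (v = 1 ∨ v = z) ∧ Commute y (v * (F.f 150 * F.f 288 * F.f 576)) := by
      rcases hwy with h | h
      · exact ⟨1, Or.inl rfl, by rwa [one_mul, ← hw]⟩
      · refine ⟨z, Or.inr rfl, ?_⟩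
        rwa [F.twist.f588.1, hw] at h
    obtain ⟨v, hv1, hv2⟩ := hv
    exact ⟨fun h => key _ h (Or.inl rfl) v hv1 hv2, fun h => key _ h (Or.inr rfl) v hv1 hv2⟩
  obtain ⟨hT1, hT2⟩ := hswap hT'E C'.xt_rel.2.1 C'.uty_xt.2.1 (Or.inl C'.xt_rel.2.2)
  obtain ⟨hS1, hS2⟩ := hswap hS'E C'.xs_rel.1 C'.uty_xs.2.1 (Or.inr C'.xs_rel.2.2)
  have hnz : ∀ {i j : Fin 3} {y : G}, y = C.xt ^ (i : ℕ) * C.xs ^ (j : ℕ) →
      ¬ Commute y (F.f 576) → ¬ Commute y (F.f 588) → i ≠ 0 ∧ j ≠ 0 := by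
    intro i j y hy h1 h2
    refine ⟨fun hi => h2 ?_, fun hj => h1 ?_⟩
    · subst hi
      rw [hy]
      simpa using (C.xs_rel.2.2).pow_left (j : ℕ)
    · subst hj
      rw [hy]
      simpa using (C.xt_rel.2.2).pow_left (i : ℕ)
  obtain ⟨hk, hl⟩ := hnz hT' hT1 hT2
  obtain ⟨hk', hl'⟩ := hnz hS' hS1 hS2
  have hind : k * l' ≠ k' * l := by
    intro h
    have key : ∀ k l k' l' : Fin 3, k ≠ 0 → l ≠ 0 → k' ≠ 0 → l' ≠ 0 → k * l' = k' * l →
        (k' = k ∧ l' = l) ∨ (k' = -k ∧ l' = -l) := by decide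
    obtain ⟨-, -, -, v3, v4⟩ := coord_units C'
    rcases key k l k' l' hk hl hk' hl' h with ⟨rfl, rfl⟩ | ⟨rfl, rfl⟩
    · have := C'.coord_inj S (show C'.coord (0, 0, 1, 0) = C'.coord (0, 0, 0, 1) by
        rw [v3, v4, hcoT, hcoS])
      exact absurd this (by decide)
    · have h1 : C'.coord ((0, 0, 1, 0) + (0, 0, 0, 1)) = C'.coord 0 := by
        rw [coord_add C' S, v3, v4, (coord_units C').1, hcoT, hcoS, ← coord_add C S,
          show ((0, 0, k, l) : Co) + (0, 0, -k, -l) = 0 from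
            (show ∀ k l : Fin 3, ((0, 0, k, l) : Co) + (0, 0, -k, -l) = 0 by decide) k l, u0]
      exact absurd (C'.coord_inj S h1) (by decide)
  obtain ⟨s1, s2, s3, s4, s5, s6⟩ := mM_spec k l k' l' hind
  have hm : ∀ v, C'.n * C.coord v * C'.n⁻¹ = C.coord (mM k l k' l' v) := by
    have b1 : C'.n * C.coord (0, 0, k, l) * C'.n⁻¹ = C.coord (0, 0, k', l') := by
      rw [← hcoT, ← hcoS]; rfl
    have b2 : C'.n * C.coord (0, 0, k', l') * C'.n⁻¹ = C.coord (1, 0, 0, 0) := by
      rw [← hcoS, n_xs C', e153, u1]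
    have hsc : ∀ (c : Fin 3) (v v' : Co), C'.n * C.coord v * C'.n⁻¹ = C.coord v' →
        C'.n * C.coord (sc c v) * C'.n⁻¹ = C.coord (sc c v') := fun c v v' h => by
      rw [coord_sc C S, coord_sc C S, ← conj_pow, h]
    have hadd : ∀ (v v' w w' : Co), C'.n * C.coord v * C'.n⁻¹ = C.coord v' →
        C'.n * C.coord w * C'.n⁻¹ = C.coord w' → C'.n * C.coord (v + w) * C'.n⁻¹ = C.coord (v' + w') :=
      fun v v' w w' h h' => by rw [coord_add C S, coord_add C S, ← conj_mul, h, h']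
    refine acts_lin C S ?_ ?_ ?_ ?_
    · rw [← e153, ← hcoT]; rfl
    · rw [u2, ← e150]; exact conj_eq_iff_commute.2 C'.nu
    · rw [← u3, ← s5]; exact hadd _ _ _ _ (hsc _ _ _ b1) (hsc _ _ _ b2)
    · rw [← u4, ← s6]; exact hadd _ _ _ _ (hsc _ _ _ b1) (hsc _ _ _ b2)
  have h144 : F.f 144 = C.coord (2, 2, 0, 0) := by
    rw [← c1, F.mul _ _ (mulH_lt _ _) (mulH_lt _ _), F.mul _ _ (by norm_num) (by norm_num),
      F.mul _ _ (by norm_num) (by norm_num)]
    simp [Cycle.coord, pow_two]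
  obtain ⟨w, -, hfix, v, -, hv⟩ := word_exists k l k' l' hk hl hk' hl' hind
  obtain ⟨g, hg⟩ := acts_word C hn hm w
  refine ⟨C.coord v, g, ?_, ?_, ?_⟩
  · rw [h144]; exact C.esub_comm S (C.coord_mem S v) (C.coord_mem S _)
  · rw [h144]; exact conj_eq_iff_commute.1 (by rw [hg, hfix])
  · have h225 : C.coord (1, 1, 0, 0) = (F.f 144)⁻¹ := by
      refine eq_inv_of_mul_eq_one_left ?_
      rw [h144, ← coord_add C S, show ((1, 1, 0, 0) : Co) + (2, 2, 0, 0) = 0 by decide, u0]
    rcases hv with hv | hv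
    · left; rw [hg, hv, coord_add C S, (C.esub_comm S (C.coord_mem S v) (C.coord_mem S _)).eq,
        mul_inv_cancel_right, h144]
    · right; rw [hg, hv, coord_add C S, (C.esub_comm S (C.coord_mem S v) (C.coord_mem S _)).eq,
        mul_inv_cancel_right, h225]

end Cfsg.Agent.SuzY
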