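import Cfsg.Agent.Lib.SuzY.Quot
import Cfsg.Agent.Lib.SuzY.Esub

/-!
The element `x` lies in the commutator subgroup of its centraliser.
-/

set_option autoImplicit false
set_option linter.style.haveILetI false
set_option linter.unusedSectionVars false
set_option linter.unusedVariables false
set_option maxRecDepth 20000
set_option synthInstance.maxSize 4000
set_option synthInstance.maxHeartbeats 400000

namespace Cfsg.Agent.SuzY

open Cfsg.Agent.SuzT Subgroup
open Cfsg.Agent.CoFive (eq_one_of_pow)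
open scoped commutatorElement

local notation "F" => ZMod 2

theorem flat_single : ∀ i j : Fin 3, ∀ v : V, Perp v → v ≠ 0 → em ((i, j), (false, false)) v = v →
    i = 0 ∨ j = 0 := by decide +kernel

theorem flat_count : ∀ i j : Fin 3, (i = 0 ∨ j = 0) →
    16 ≤ (Finset.univ.filter fun v : V => em ((i, j), (false, false)) v = v).card := by decide +kernel

theorem model_facts : U43T.mulH 144 1 = U43T.mulH 1 144 ∧ U43T.mulH (U43T.mulH 144 144) 144 = 0 ∧
    U43T.mulH (U43T.mulH 6 6) 6 = 0 ∧ U43T.mulH (U43T.mulH 1 1) (U43T.mulH 1 1) = 0 ∧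
    U43T.mulH (U43T.mulH 6 (U43T.mulH (U43T.cjH 1 6) (U43T.iH 6))) (U43T.iH 6) = U43T.iH 1 := by
  decide +kernel

/-- The quotient has the data of a group of unitary type U₄(3). -/
theorem U43Like.exists_setting {K : Type*} [Group K] [Finite K] (h : U43Like K) :
    ∃ z : K, Nonempty (U43T.Setting z) := by
  obtain ⟨z, hz, H₁, H₂, hK, hn₁, hn₂, ⟨e₁⟩, ⟨e₂⟩, hmeet, Q, -, hQ, hF, hnwc, hH, hQQg⟩ := h
  obtain ⟨D⟩ := U43T.exists_kdata z hz H₁ H₂ hK hn₁ hn₂ e₁ e₂ hmeet Q hQ hF hnwc hH hQQg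
  exact ⟨z, D.exists_setting⟩

variable {G : Type*} [Group G] [Finite G] {z : G} {Q : Subgroup G} {π : G → V} {ρ : G → V → V}
  {x : G}

namespace Fy

variable (Z : Fy z Q π ρ x)
include Z

/-- Elements of odd order of the complement lie in the commutator subgroup of the centraliser of `x`. -/
theorem odd_derived {c : G} (hc : c ∈ Z.cen0) (hodd : Odd (orderOf c)) :
    c ∈ ⁅centralizer ({x} : Set G), centralizer ({x} : Set G)⁆ := by
  have S := Z.S
  set CB := centralizer ({x} : Set G) with hCB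
  let f : CB →* CB ⧸ _root_.commutator CB := QuotientGroup.mk' _
  have hle : Z.cen0 ≤ CB := fun a ha => ha.1.2
  let g : Z.cen0 →* CB ⧸ _root_.commutator CB := f.comp (inclusion hle)
  have hcomm : ∀ a b : Z.cen0, g a * g b = g b * g a := fun a b => by
    refine commutatorElement_eq_one_iff_mul_comm.1 ?_
    rw [← map_commutatorElement]
    show f (inclusion hle ⁅a, b⁆) = 1
    rw [map_commutatorElement]
    exact (QuotientGroup.eq_one_iff _).2 (commutator_mem_commutator (mem_top _) (mem_top _))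
  have hU : ∀ u : Z.cen0, (u : G) ∈ Z.U → g u ^ 4 = 1 := fun u hu => by
    rw [← map_pow, show u ^ 4 = 1 from Subtype.ext (by rw [SubmonoidClass.coe_pow]; exact four_pow S hu.1),
      map_one]
  obtain ⟨qa, ta, qc, tb, T⟩ := Z.exists_two
  obtain ⟨d, hd, hρd⟩ := Z.lift_comm isOm_inv2 fun v => ((outer_comm v).2.1).symm
  have hd0 : d ∈ Z.cen0 := ⟨hd, by rw [hρd]; exact (show inv2 a0 = a0 by decide +kernel)⟩
  have hinv : ∀ (t : G) (ht : t ∈ Z.cen0) (a b : V), orderOf t = 3 → (∀ v, ρ t v = rot a b v) →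
      (∀ v, inv2 (rot a b (inv2 v)) = rot a b (rot a b v)) → (∀ v, rot a b (rot a b (rot a b v)) = v) →
      g ⟨t, ht⟩ = 1 := by
    intro t ht a b ht3 hρt hi h3
    have htz := Z.z0 ht
    have hdz := Z.z0 hd0
    have hu : (d * t * d⁻¹ * t : G) ∈ Z.U := by
      refine Z.mem_U_of_rho (mul_mem (mul_mem (mul_mem hd ht.1) (inv_mem hd)) ht.1) fun v => ?_
      have hdi : ∀ w, ρ d⁻¹ w = inv2 w := fun w => S.rho_inj hdz (by
        rw [← S.rho_mul hdz (cinv S hdz), mul_inv_cancel, S.rho_one, hρd, (outer_comm w).2.2.2])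
      rw [S.rho_mul (cmul S (cmul S hdz htz) (cinv S hdz)) htz, S.rho_mul (cmul S hdz htz) (cinv S hdz),
        S.rho_mul hdz htz, hρd, hρt, hdi, hi, hρt, h3]
    have h := hU (⟨d, hd0⟩ * ⟨t, ht⟩ * ⟨d, hd0⟩⁻¹ * ⟨t, ht⟩) hu
    rw [map_mul, map_mul, map_mul, map_inv, hcomm ⟨d, hd0⟩ ⟨t, ht⟩, mul_inv_cancel_right, ← pow_two,
      ← pow_mul] at h
    refine eq_one_of_pow h (n := 3) ?_ (by norm_num)
    rw [← map_pow, show (⟨t, ht⟩ : Z.cen0) ^ 3 = 1 from Subtype.ext (by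
      rw [SubmonoidClass.coe_pow, Subgroup.coe_one, ← ht3, pow_orderOf_eq_one]), map_one]
  obtain ⟨-, -, -, h1, h2, h3, h4, h5, h6⟩ := plane_facts
  have hta := hinv ta T.A.tc a1 b1 T.A.three T.A.rt (fun v => (inv2_rot v).1) (rot_three h1 h2 h3)
  have htb := hinv tb T.B.tc a2 b2 T.B.three T.B.rt (fun v => (inv2_rot v).2) (rot_three h4 h5 h6)
  have hJ : ∀ a : Z.cen0, (a : G) ∈ T.J → g a ^ 4 = 1 := by
    let P : Subgroup Z.cen0 :=
      { carrier := {a | g a ^ 4 = 1}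
        one_mem' := by show g 1 ^ 4 = 1; rw [map_one, one_pow]
        mul_mem' := fun {a b} ha hb => by
          show g (a * b) ^ 4 = 1
          rw [map_mul, (show Commute (g a) (g b) from hcomm a b).mul_pow, show g a ^ 4 = 1 from ha,
            show g b ^ 4 = 1 from hb, one_mul]
        inv_mem' := fun {a} ha => by
          show g a⁻¹ ^ 4 = 1
          rw [map_inv, inv_pow, show g a ^ 4 = 1 from ha, inv_one] }
    have hP : T.J ≤ P.map Z.cen0.subtype := by
      refine sup_le ?_ ?_ <;> rw [Pl.grp, closure_le] <;> rintro _ (rfl | rfl)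
      · exact ⟨⟨_, Z.U_le0 T.A.mem⟩, hU _ T.A.mem, rfl⟩
      · exact ⟨⟨_, T.A.tc⟩, by show g _ ^ 4 = 1; rw [hta, one_pow], rfl⟩
      · exact ⟨⟨_, Z.U_le0 T.B.mem⟩, hU _ T.B.mem, rfl⟩
      · exact ⟨⟨_, T.B.tc⟩, by show g _ ^ 4 = 1; rw [htb, one_pow], rfl⟩
    intro a ha
    obtain ⟨b, hb, e⟩ := hP ha
    rwa [← show b = a from Subtype.ext e]
  have hgc : g ⟨c, hc⟩ = 1 := by
    refine eq_one_of_pow (hJ ⟨c, hc⟩ (T.odd_mem hc hodd)) (n := orderOf c) ?_
      ((Nat.Coprime.pow_right 2 (Nat.coprime_two_right.2 hodd)).symm)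
    rw [← map_pow, show (⟨c, hc⟩ : Z.cen0) ^ orderOf c = 1 from Subtype.ext (by
      rw [SubmonoidClass.coe_pow]; exact pow_orderOf_eq_one c), map_one]
  have hm : (⟨c, hle hc⟩ : CB) ∈ _root_.commutator CB := (QuotientGroup.eq_one_iff _).1 hgc
  rw [← Subgroup.map_subtype_commutator]
  exact ⟨_, hm, rfl⟩

/-- The element `x` lies in the commutator subgroup of its centraliser. -/
theorem derived {s g : G} (X : Fr z Q π ρ s g) :
    x ∈ ⁅centralizer ({x} : Set G), centralizer ({x} : Set G)⁆ := by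
  classical
  by_contra hxD
  have S := Z.S
  set CB := centralizer ({x} : Set G) with hCB
  have hdisj : ∀ a ∈ zpowers x, a ∈ ⁅CB, CB⁆ → a = 1 := by
    intro a ha haD
    by_contra ha1
    refine hxD (zpowers_le.2 haD ?_)
    haveI : Fact (Nat.Prime (Nat.card (zpowers x))) := ⟨by rw [Nat.card_zpowers, Z.three]; norm_num⟩
    have htop : zpowers a = zpowers x := by
      refine eq_of_le_of_card_ge (zpowers_le.2 ha) ?_
      rcases (Nat.dvd_prime (Fact.out : Nat.Prime (Nat.card (zpowers x)))).1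
        (card_dvd_of_le (zpowers_le.2 ha)) with h | h
      · exact absurd (orderOf_eq_one_iff.1 ((Nat.card_zpowers a).symm.trans h)) ha1
      · exact h.ge
    rw [htop]; exact mem_zpowers x
  obtain ⟨qa, ta, qc, tb, T⟩ := Z.exists_two
  obtain ⟨zK, hzB, hzK, hord, e, he⟩ := Z.exists_equiv
  obtain ⟨z₁, ⟨St⟩⟩ := (Z.u43Like X).exists_setting
  haveI : Fact (Nat.Prime 2) := ⟨Nat.prime_two⟩
  obtain ⟨F0⟩ := St.exists_frame (x := zK) (by rw [← pow_two, ← hord, pow_orderOf_eq_one])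
    (fun h => by rw [h, orderOf_one] at hord; omega)
  obtain ⟨m1, m2, m3, m4, m5⟩ := model_facts
  let fc : ∀ n, n < 1152 → Z.cen0 := fun n hn =>
    e.symm ⟨F0.f n, mem_centralizer_singleton_iff.2 (F0.comm n hn)⟩
  have hmul : ∀ a b (ha : a < 1152) (hb : b < 1152),
      fc (U43T.mulH a b) (U43T.mulH_lt _ _) = fc a ha * fc b hb := fun a b ha hb => by
    rw [← map_mul]
    exact congrArg e.symm (Subtype.ext (F0.mul a b ha hb))
  have hinj : ∀ a b (ha : a < 1152) (hb : b < 1152), fc a ha = fc b hb → a = b := fun a b ha hb h =>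
    F0.inj a b ha hb (congrArg Subtype.val (e.symm.injective h))
  have hcongr : ∀ a b (ha : a < 1152) (hb : b < 1152), a = b → fc a ha = fc b hb := by
    rintro a b ha hb rfl; rfl
  have h0 : fc 0 (by norm_num) = 1 := by
    rw [← map_one e.symm]; exact congrArg e.symm (Subtype.ext F0.f0)
  have hinvc : ∀ a (ha : a < 1152), fc (U43T.iH a) (U43T.iH_lt a) = (fc a ha)⁻¹ := fun a ha => by
    rw [← map_inv]; exact congrArg e.symm (Subtype.ext (F0.f_iH ha))
  set t₀ := fc 144 (by norm_num) with ht₀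
  set w₀ := fc 1 (by norm_num) with hw₀
  set c₀ := fc 6 (by norm_num) with hc₀
  have hcube : ∀ a (ha : a < 1152), U43T.mulH (U43T.mulH a a) a = 0 → fc a ha ^ 3 = 1 := fun a ha h => by
    rw [pow_succ, pow_two, ← hmul a a ha ha, ← hmul _ a (U43T.mulH_lt _ _) ha,
      hcongr _ 0 (U43T.mulH_lt _ _) (by norm_num) h, h0]
  have ht3 : (t₀ : G) ^ 3 = 1 := by rw [← SubmonoidClass.coe_pow, ht₀, hcube 144 (by norm_num) m2]; rfl
  have hc3 : (c₀ : G) ^ 3 = 1 := by rw [← SubmonoidClass.coe_pow, hc₀, hcube 6 (by norm_num) m3]; rfl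
  have hodd : ∀ {a : G}, a ^ 3 = 1 → Odd (orderOf a) := fun h =>
    (show Odd 3 by decide).of_dvd_nat (orderOf_dvd_of_pow_eq_one h)
  have htw : (t₀ : G) * w₀ = w₀ * t₀ := by
    rw [← Subgroup.coe_mul, ← Subgroup.coe_mul, ht₀, hw₀, ← hmul, ← hmul]
    exact congrArg Subtype.val (hcongr _ _ (U43T.mulH_lt _ _) (U43T.mulH_lt _ _) m1)
    all_goals first | exact U43T.mulH_lt _ _ | exact U43T.iH_lt _ | norm_num
  have hw4 : (w₀ : G) ^ (2 ^ 2) = 1 := by
    have : w₀ ^ 4 = 1 := by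
      rw [show w₀ ^ 4 = w₀ * w₀ * (w₀ * w₀) by simp only [pow_succ, pow_zero, one_mul, mul_assoc], hw₀,
        ← hmul 1 1 (by norm_num) (by norm_num), ← hmul _ _ (U43T.mulH_lt 1 1) (U43T.mulH_lt 1 1),
        hcongr _ 0 (U43T.mulH_lt _ _) (by norm_num) m4, h0]
    rw [show 2 ^ 2 = 4 by norm_num, ← SubmonoidClass.coe_pow, this]; rfl
  have hwJ : (w₀ : G) ∈ T.J := by
    have hcJ : (c₀ : G) ∈ T.J := T.odd_mem c₀.2 (hodd hc3)
    have hcj : (w₀ : G) * c₀ * (w₀ : G)⁻¹ ∈ T.J := T.odd_mem (mul_mem (mul_mem w₀.2 c₀.2) (inv_mem w₀.2))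
      (hodd (by rw [conj_pow, hc3, mul_one, mul_inv_cancel]))
    have hword : w₀⁻¹ = c₀ * (w₀ * c₀ * w₀⁻¹ * c₀⁻¹) * c₀⁻¹ := by
      rw [hw₀, hc₀, ← hinvc, ← hinvc, ← hmul 1 6, ← hmul, ← hmul, ← hmul, ← hmul]
      exact hcongr _ _ (U43T.iH_lt _) (U43T.mulH_lt _ _) m5.symm
      all_goals first | exact U43T.mulH_lt _ _ | exact U43T.iH_lt _ | norm_num
    have h2 : ((w₀⁻¹ : Z.cen0) : G) ∈ T.J := by
      rw [hword]
      exact mul_mem (mul_mem hcJ (mul_mem hcj (inv_mem hcJ))) (inv_mem hcJ)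
    simpa using inv_mem h2
  have hwU := T.two_elt hwJ hw4
  have hπw : π (w₀ : G) ≠ 0 := fun h => by
    rcases (S.pi_eq _ hwU.1).1 h with h | h
    · exact absurd (hinj 1 0 (by norm_num) (by norm_num) (by rw [h0]; exact Subtype.ext h)) (by norm_num)
    · refine absurd (hinj 1 12 (by norm_num) (by norm_num) ?_) (by norm_num)
      have hz0 : e ⟨z, Z.U_le0 Z.z_mem_U⟩ = ⟨zK, mem_centralizer_singleton_iff.2 rfl⟩ := by
        obtain ⟨hh, hh'⟩ := he ⟨z, Z.U_le0 Z.z_mem_U⟩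
        exact Subtype.ext (hh'.trans hzK.symm)
      show w₀ = fc 12 (by norm_num)
      rw [show w₀ = (⟨z, Z.U_le0 Z.z_mem_U⟩ : Z.cen0) from Subtype.ext h, ← e.symm_apply_apply ⟨z, _⟩, hz0]
      exact congrArg e.symm (Subtype.ext F0.fz.symm)
  obtain ⟨p, hp⟩ := Z.idx0 t₀.2
  have hp3 : ∀ v, em p (em p (em p v)) = v := fun v => by
    rw [← hp, ← hp, ← hp]
    have := rho_pow S (Z.z0 t₀.2) 3 v
    rw [ht3, S.rho_one] at this
    exact this.symm
  obtain ⟨⟨i, j⟩, w⟩ := p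
  obtain rfl : w = (false, false) := em_three _ hp3
  have hij : i = 0 ∨ j = 0 := flat_single i j _ (Z.mem_U.1 hwU).2 hπw (by
    rw [← hp, ← S.conj _ (Z.z0 t₀.2) _ hwU.1, mul_inv_eq_iff_eq_mul.2 htw])
  have ht1 : orderOf (t₀ : G) = 3 := by
    haveI : Fact (Nat.Prime 3) := ⟨Nat.prime_three⟩
    refine orderOf_eq_prime ht3 fun h => ?_
    exact absurd (hinj 144 0 (by norm_num) (by norm_num) (by rw [h0]; exact Subtype.ext h)) (by norm_num)
  have hfix : 32 ≤ Nat.card ↥(Q ⊓ centralizer ({(t₀ : G)} : Set G)) := by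
    have h := card_lift S fun v => ρ (t₀ : G) v = v
    rw [show Nat.card {u : G // u ∈ Q ∧ ρ (t₀ : G) (π u) = π u} =
      Nat.card ↥(Q ⊓ centralizer ({(t₀ : G)} : Set G)) from
      Nat.card_congr (Equiv.subtypeEquivRight fun u => by
        rw [mem_inf, mem_centralizer_singleton_iff]
        exact and_congr_right fun hu => by
          rw [← fix_iff_comm S (Z.z0 t₀.2) (hodd ht3) hu, eq_comm])] at h
    rw [h, show Nat.card {v : V // ρ (t₀ : G) v = v} =
      (Finset.univ.filter fun v : V => em ((i, j), (false, false)) v = v).card by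
        rw [Nat.card_eq_fintype_card, Fintype.card_subtype]; simp only [hp]]
    have := flat_count i j hij
    omega
  obtain ⟨h, hh, hconj⟩ := Z.conj_of_fix (Z.z0 t₀.2) ht1 hfix
  -- the commutator in the quotient
  obtain ⟨a, b, hac, hbc, hab⟩ := exists_commutator St F0
  obtain ⟨⟨a', ha'⟩, rfl⟩ := QuotientGroup.mk_surjective a
  obtain ⟨⟨b', hb'⟩, rfl⟩ := QuotientGroup.mk_surjective b
  have htB : (t₀ : G) ∈ CB := t₀.2.1.2
  have htD : (t₀ : G) ∈ ⁅CB, CB⁆ := Z.odd_derived t₀.2 (hodd ht3)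
  have htK : F0.f 144 = QuotientGroup.mk (⟨(t₀ : G), htB⟩ : CB) := by
    obtain ⟨hh, hh'⟩ := he t₀
    rw [← hh', ht₀]
    show _ = (e (e.symm _)).1
    rw [MulEquiv.apply_symm_apply]
  have hcomD : ∀ p ∈ CB, ∀ q ∈ CB, p * q * p⁻¹ * q⁻¹ ∈ ⁅CB, CB⁆ := fun p hp q hq => by
    rw [← commutatorElement_def]; exact commutator_mem_commutator hp hq
  have hlift : ∀ (p : G) (hp : p ∈ CB), Commute (QuotientGroup.mk (⟨p, hp⟩ : CB)) (F0.f 144) →
      p ∈ centralizer ({(t₀ : G)} : Set G) := by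
    intro p hp hc
    rw [htK] at hc
    have h1 : (⟨p, hp⟩ * ⟨(t₀ : G), htB⟩ * ⟨p, hp⟩⁻¹ * ⟨(t₀ : G), htB⟩⁻¹ : CB) ∈ (zpowers x).subgroupOf CB := by
      refine (QuotientGroup.eq_one_iff _).1 ?_
      rw [QuotientGroup.mk_mul, QuotientGroup.mk_mul, QuotientGroup.mk_mul, QuotientGroup.mk_inv,
        QuotientGroup.mk_inv, hc.eq, mul_inv_cancel_right, mul_inv_cancel]
    exact mem_centralizer_singleton_iff.2 (mul_inv_eq_iff_eq_mul.1 (mul_inv_eq_one.1
      (hdisj _ (mem_subgroupOf.1 h1) (hcomD p hp _ htB))))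
  have hat := hlift a' ha' hac
  have hbt := hlift b' hb' hbc
  set Ct := centralizer ({(t₀ : G)} : Set G) with hCt
  have htt : (t₀ : G) ∈ ⁅Ct, Ct⁆ := by
    have hd : b' * a' * b'⁻¹ * a'⁻¹ ∈ ⁅Ct, Ct⁆ := by
      rw [← commutatorElement_def]; exact commutator_mem_commutator hbt hat
    have hdD := hcomD b' hb' a' ha'
    rw [htK] at hab
    rcases hab with hab | hab
    · have h1 : (⟨b', hb'⟩ * ⟨a', ha'⟩ * ⟨b', hb'⟩⁻¹ * ⟨a', ha'⟩⁻¹ * ⟨(t₀ : G), htB⟩⁻¹ : CB) ∈
          (zpowers x).subgroupOf CB := by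
        refine (QuotientGroup.eq_one_iff _).1 ?_
        simp only [QuotientGroup.mk_mul, QuotientGroup.mk_inv]
        rw [hab, mul_inv_cancel]
      rw [← mul_inv_eq_one.1 (hdisj _ (mem_subgroupOf.1 h1) (mul_mem hdD (inv_mem htD)))]
      exact hd
    · have h1 : (⟨b', hb'⟩ * ⟨a', ha'⟩ * ⟨b', hb'⟩⁻¹ * ⟨a', ha'⟩⁻¹ * ⟨(t₀ : G), htB⟩ : CB) ∈
          (zpowers x).subgroupOf CB := by
        refine (QuotientGroup.eq_one_iff _).1 ?_
        simp only [QuotientGroup.mk_mul, QuotientGroup.mk_inv]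
        rw [hab, inv_mul_cancel]
      rw [← inv_eq_of_mul_eq_one_right (hdisj _ (mem_subgroupOf.1 h1) (mul_mem hdD htD))]
      exact inv_mem hd
  -- transport to `x`
  refine hxD ?_
  have hle : Ct.map (MulAut.conj h).toMonoidHom ≤ CB := by
    rintro _ ⟨p, hp, rfl⟩
    refine mem_centralizer_singleton_iff.2 ?_
    show h * p * h⁻¹ * x = x * (h * p * h⁻¹)
    rw [← hconj, show h * p * h⁻¹ * (h * t₀ * h⁻¹) = h * (p * t₀) * h⁻¹ by group,
      mem_centralizer_singleton_iff.1 hp]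
    group
  have h2 := mem_map_of_mem (MulAut.conj h).toMonoidHom htt
  rw [Subgroup.map_commutator, show (MulAut.conj h).toMonoidHom (t₀ : G) = x from hconj] at h2
  exact commutator_mono hle hle h2

end Fy

end Cfsg.Agent.SuzY
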