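import Cfsg.Agent.Lib.SuzY.Setting
import Cfsg.Agent.Lib.NearField.SL23
import Cfsg.Agent.Lib.Components.Basic
import Cfsg.Agent.Lib.CN.Basic

/-!
The complement of `x` in its centraliser in the centraliser of `z`: two commuting copies of the binary
tetrahedral group generated by the elements of odd order, over a self-centralising group of order 32.
-/

set_option autoImplicit false
set_option linter.style.haveILetI false
set_option linter.unusedSectionVars false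
set_option linter.unusedVariables false
set_option maxRecDepth 20000
set_option synthInstance.maxSize 4000
set_option synthInstance.maxHeartbeats 400000

namespace Cfsg.Agent.SuzY

open Cfsg.Agent.SuzT Subgroup
open Cfsg.Agent.CoThree (three_conj)
open Cfsg.Agent.CoFive (eq_one_of_pow)

local notation "F" => ZMod 2

theorem rot_plane_ab : rot a1 b1 a0 = a0 ∧ rot a1 b1 v0 = v0 ∧ rot a2 b2 a0 = a0 ∧ rot a2 b2 v0 = v0 := by
  decide +kernel

theorem em_rot : ∀ i j : Fin 3, ∀ v : V,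
    em ((i, j), (false, false)) v = (rot a1 b1)^[i] ((rot a2 b2)^[j] v) := fun _ _ _ => rfl

theorem em_zero : ∀ v : V, em ((0, 0), (false, false)) v = v := fun _ => rfl

theorem em_centre : ∀ p : Idx,
    em p (rot a1 b1 a1) = rot a1 b1 (em p a1) → em p (rot a1 b1 b1) = rot a1 b1 (em p b1) →
    em p (rot a2 b2 a1) = rot a2 b2 (em p a1) → em p (rot a2 b2 a2) = rot a2 b2 (em p a2) →
    p.2 = (false, false) := by decide +kernel

theorem em_flat_three : ∀ i j : Fin 3, em ((i, j), (false, false)) (em ((i, j), (false, false))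
    (em ((i, j), (false, false)) a1)) = a1 ∧ em ((i, j), (false, false)) (em ((i, j), (false, false))
    (em ((i, j), (false, false)) b1)) = b1 ∧ em ((i, j), (false, false)) (em ((i, j), (false, false))
    (em ((i, j), (false, false)) a2)) = a2 ∧ em ((i, j), (false, false)) (em ((i, j), (false, false))
    (em ((i, j), (false, false)) b2)) = b2 := by decide +kernel

theorem perp_split : ∀ v : V, Perp v → bil v a1 = 0 → bil v b1 = 0 → bil v a2 = 0 → bil v b2 = 0 → v = 0 := by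
  decide +kernel

theorem orth_planes : bil a1 a2 = 0 ∧ bil a1 b2 = 0 ∧ bil b1 a2 = 0 ∧ bil b1 b2 = 0 := by decide +kernel

variable {G : Type*} [Group G] [Finite G] {z : G} {Q : Subgroup G} {π : G → V} {ρ : G → V → V}
  {x : G}

namespace Fy

variable (Z : Fy z Q π ρ x)
include Z

/-- The part of the centraliser fixing the first plane. -/
def cen0 : Subgroup G where
  carrier := {c | c ∈ Z.cen ∧ ρ c a0 = a0}
  one_mem' := ⟨one_mem _, Z.S.rho_one a0⟩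
  mul_mem' := fun {a b} ha hb => ⟨mul_mem ha.1 hb.1, by
    rw [Z.S.rho_mul (Z.cen_z ha.1) (Z.cen_z hb.1), hb.2, ha.2]⟩
  inv_mem' := fun {a} ha => ⟨inv_mem ha.1, by
    conv_lhs => rw [← ha.2]
    rw [← Z.S.rho_mul (Z.cen_z (inv_mem ha.1)) (Z.cen_z ha.1), inv_mul_cancel, Z.S.rho_one]⟩

theorem mem_cen0 {c : G} : c ∈ Z.cen0 ↔ c ∈ Z.cen ∧ ρ c a0 = a0 := Iff.rfl

theorem cen0_le {c : G} (hc : c ∈ Z.cen0) : c ∈ Z.cen := hc.1

theorem z0 {c : G} (hc : c ∈ Z.cen0) : c * z = z * c := Z.cen_z hc.1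

theorem fix_plane {c : G} (hc : c ∈ Z.cen0) : ρ c a0 = a0 ∧ ρ c v0 = v0 := by
  refine ⟨hc.2, ?_⟩
  conv_lhs => rw [← rot_facts.1]
  rw [Z.rho_rot hc.1, hc.2, rot_facts.1]

theorem idx0 {c : G} (hc : c ∈ Z.cen0) : ∃ p : Idx, ∀ v, ρ c v = em p v :=
  exists_em (Z.S.om c (Z.z0 hc)) (Z.fix_plane hc).1 (Z.fix_plane hc).2

theorem U_le0 {u : G} (hu : u ∈ Z.U) : u ∈ Z.cen0 :=
  ⟨Z.U_le hu, (Z.S.ker u (Z.S.Qz hu.1)).2 hu.1 a0⟩

theorem x_pow_of_fix {k : ℕ} (h : x ^ k ∈ Z.cen0) : x ^ k = 1 := by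
  have h1 := h.2
  rw [Z.rho_x_pow] at h1
  have h3 : (rot a0 v0)^[k] a0 = (rot a0 v0)^[k % 3] a0 := by
    conv_lhs => rw [← Nat.mod_add_div k 3, Function.iterate_add_apply]
    congr 1
    rw [Function.iterate_mul]
    exact Function.iterate_fixed (rot0_three a0) _
  rw [h3] at h1
  have hk : (⟨k % 3, Nat.mod_lt _ (by norm_num)⟩ : Fin 3) = 0 := rot_plane.2.2.2.2 _ _ h1
  have hk' : k % 3 = 0 := congrArg Fin.val hk
  obtain ⟨j, rfl⟩ := Nat.dvd_of_mod_eq_zero hk'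
  rw [pow_mul, Z.pow_three, one_pow]

theorem split {c : G} (hc : c ∈ Z.cen) : ∃ (k : ℕ) (d : G), d ∈ Z.cen0 ∧ c = d * x ^ k := by
  obtain ⟨m, p, hp⟩ := Z.exists_idx hc
  refine ⟨m, c * (x ^ (m : ℕ))⁻¹, ⟨mul_mem hc (inv_mem (Z.pow_mem' _)), ?_⟩, (inv_mul_cancel_right _ _).symm⟩
  have hm := Z.x_z (m : ℕ)
  rw [show c * (x ^ (m : ℕ))⁻¹ = (x ^ (m : ℕ))⁻¹ * c from
    ((show Commute c x from Z.cen_x hc).pow_right _).inv_right.eq, Z.S.rho_mul (cinv Z.S hm) (Z.cen_z hc), hp,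
    ← Z.rho_x_pow, ← Z.S.rho_mul (cinv Z.S hm) hm, inv_mul_cancel, Z.S.rho_one, (em_plane p).1]

/-- The complement has index three. -/
theorem card_cen0 : Nat.card Z.cen0 = 1152 := by
  classical
  let T : Z.cen0 × Fin 3 → Z.cen := fun w =>
    ⟨(w.1 : G) * x ^ (w.2 : ℕ), mul_mem w.1.2.1 (Z.pow_mem' _)⟩
  have hT : Function.Bijective T := by
    constructor
    · rintro ⟨⟨a, ha⟩, i⟩ ⟨⟨b, hb⟩, j⟩ e
      have e' : a * x ^ (i : ℕ) = b * x ^ (j : ℕ) := congrArg Subtype.val e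
      have h : x ^ ((i : ℕ) + (3 - (j : ℕ))) ∈ Z.cen0 := by
        have hd : x ^ (i : ℕ) * (x ^ (j : ℕ))⁻¹ ∈ Z.cen0 := by
          have : x ^ (i : ℕ) * (x ^ (j : ℕ))⁻¹ = a⁻¹ * b := by
            rw [eq_inv_mul_iff_mul_eq, ← mul_assoc, e', mul_inv_cancel_right]
          rw [this]; exact mul_mem (inv_mem ha) hb
        rwa [show x ^ ((i : ℕ) + (3 - (j : ℕ))) = x ^ (i : ℕ) * (x ^ (j : ℕ))⁻¹ from ?_]
        rw [eq_mul_inv_iff_mul_eq, ← pow_add, show (i : ℕ) + (3 - (j : ℕ)) + j = i + 3 by omega, pow_add,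
          Z.pow_three, mul_one]
      have h1 := Z.x_pow_of_fix h
      have h2 : x ^ (i : ℕ) = x ^ (j : ℕ) := by
        calc x ^ (i : ℕ) = x ^ ((i : ℕ) + (3 - (j : ℕ)) + j) := by
              rw [show (i : ℕ) + (3 - (j : ℕ)) + j = i + 3 by omega, pow_add x (i : ℕ) 3, Z.pow_three, mul_one]
          _ = x ^ (j : ℕ) := by rw [pow_add, h1, one_mul]
      have hij : i = j := rot_plane.2.2.2.2 i j (by
        rw [← Z.rho_x_pow, h2, Z.rho_x_pow])
      subst hij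
      rw [show (⟨a, ha⟩ : Z.cen0) = ⟨b, hb⟩ from Subtype.ext (mul_right_cancel e')]
    · rintro ⟨c, hc⟩
      obtain ⟨k, d, hd, rfl⟩ := Z.split hc
      refine ⟨⟨⟨d, hd⟩, ⟨k % 3, Nat.mod_lt _ (by norm_num)⟩⟩, Subtype.ext ?_⟩
      show d * x ^ (k % 3) = d * x ^ k
      rw [← pow_mod_orderOf x k, Z.three]
  have h := Nat.card_eq_of_bijective T hT
  rw [Nat.card_prod, Z.card_cen, Nat.card_eq_fintype_card (α := Fin 3), Fintype.card_fin] at h
  omega

theorem perp_ext {c : G} (hc : c ∈ Z.cen0) (h1 : ρ c a1 = a1) (h1' : ρ c b1 = b1) (h2 : ρ c a2 = a2)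
    (h2' : ρ c b2 = b2) : c ∈ Z.U :=
  Z.mem_U_of_rho hc.1 (eq_of_basis (g := fun v => v) (Z.S.rho_add (Z.z0 hc)) (fun _ _ => rfl)
    (Z.fix_plane hc).1 (Z.fix_plane hc).2 h1 h1' h2 h2')

theorem self_cent {c : G} (hc : c ∈ Z.cen0) (h : ∀ u ∈ Z.U, c * u = u * c) : c ∈ Z.U := by
  obtain ⟨-, -, q1, q2, q3, q4⟩ := perp_facts
  have key : ∀ v, Perp v → ρ c v = v := fun v hv => by
    obtain ⟨u, hu, rfl⟩ := Z.S.pi_surj v
    rw [← Z.S.conj c (Z.z0 hc) u hu, mul_inv_eq_iff_eq_mul.2 (h u (Z.mem_U.2 ⟨hu, hv⟩))]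
  exact Z.perp_ext hc (key _ q1) (key _ q2) (key _ q3) (key _ q4)

end Fy

/-- One factor: a fourth-root pair in `U` and an element of order three permuting it. -/
structure Pl (Z : Fy z Q π ρ x) (a b : V) (qa t : G) : Prop where
  mem : qa ∈ Z.U
  pia : π qa = a
  tc : t ∈ Z.cen0
  three : orderOf t = 3
  rt : ∀ v, ρ t v = rot a b v
  rel : t * (t * qa * t⁻¹) * t⁻¹ = qa * (t * qa * t⁻¹)

namespace Pl

variable {Z : Fy z Q π ρ x} {a b : V} {qa t : G} (P : Pl Z a b qa t)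
include P

/-- The second generator. -/
abbrev qb (_P : Pl Z a b qa t) : G := t * qa * t⁻¹

theorem qb_mem : P.qb ∈ Z.U := Z.U_normal P.tc.1 P.mem

theorem pib (hab : rot a b a = b) : π P.qb = b := by
  rw [Z.S.conj t (Z.z0 P.tc) qa P.mem.1, P.pia, P.rt, hab]

/-- The factor. -/
def grp (_P : Pl Z a b qa t) : Subgroup G := closure {qa, t}

theorem qa_grp : qa ∈ P.grp := subset_closure (by simp)

theorem t_grp : t ∈ P.grp := subset_closure (by simp)

theorem qb_grp : P.qb ∈ P.grp := mul_mem (mul_mem P.t_grp P.qa_grp) (inv_mem P.t_grp)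

theorem grp_le : P.grp ≤ Z.cen0 := by
  rw [grp, closure_le]
  rintro _ (rfl | rfl)
  exacts [Z.U_le0 P.mem, P.tc]

theorem sq_qa (hq : q a = 1) : qa * qa = z := by rw [Z.S.sq qa P.mem.1, P.pia, hq, zb_one]

theorem z_grp (hq : q a = 1) : z ∈ P.grp := by
  have h := mul_mem P.qa_grp P.qa_grp
  rwa [P.sq_qa hq] at h

theorem t_pow_three : t ^ 3 = 1 := by rw [← P.three, pow_orderOf_eq_one]

/-- Each element acts as a power of the rotation. -/
theorem grp_rho {h : G} (hh : h ∈ P.grp) : ∃ n : ℕ, ∀ v, ρ h v = (rot a b)^[n] v := by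
  have hU := (Z.S.ker qa (Z.S.Qz P.mem.1)).2 P.mem.1
  refine closure_induction (p := fun h _ => ∃ n : ℕ, ∀ v, ρ h v = (rot a b)^[n] v) ?_ ?_ ?_ ?_ hh
  · rintro _ (rfl | rfl)
    exacts [⟨0, hU⟩, ⟨1, P.rt⟩]
  · exact ⟨0, Z.S.rho_one⟩
  · rintro c d hc hd ⟨n, hn⟩ ⟨k, hk⟩
    refine ⟨n + k, fun v => ?_⟩
    rw [Z.S.rho_mul (Z.z0 (P.grp_le hc)) (Z.z0 (P.grp_le hd)), hk, hn, Function.iterate_add_apply]
  · rintro c hc ⟨n, hn⟩
    refine ⟨2 * n, fun v => ?_⟩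
    have hcz := Z.z0 (P.grp_le hc)
    refine Z.S.rho_inj hcz ?_
    rw [← Z.S.rho_mul hcz (cinv Z.S hcz), mul_inv_cancel, Z.S.rho_one, hn, ← Function.iterate_add_apply,
      show n + 2 * n = 3 * n by ring, Function.iterate_mul]
    refine (Function.iterate_fixed ?_ _).symm
    show rot a b (rot a b (rot a b v)) = v
    rw [← P.rt, ← P.rt, ← P.rt, ← Z.S.rho_mul (Z.z0 P.tc) (Z.z0 P.tc),
      ← Z.S.rho_mul (cmul Z.S (Z.z0 P.tc) (Z.z0 P.tc)) (Z.z0 P.tc), show t * t * t = 1 by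
        rw [← P.t_pow_three, pow_succ, pow_two], Z.S.rho_one]

theorem equiv_sl (hq : q a = 1) (hb : bil a b = 1) (hab : rot a b a = b) (hne : b ≠ 0 ∧ b ≠ a) :
    Nonempty (P.grp ≃* Matrix.SpecialLinearGroup (Fin 2) (ZMod 3)) := by
  classical
  haveI : Fact (Nat.Prime 2) := ⟨Nat.prime_two⟩
  have S := Z.S
  obtain ⟨qb, hqb⟩ : ∃ u, P.qb = u := ⟨_, rfl⟩
  have hπb := P.pib hab
  have hbQ := P.qb_mem.1
  have hbg := P.qb_grp
  rw [hqb] at hπb hbQ hbg
  have hqq := P.sq_qa hq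
  have h1 : qa * qb * qa = qb := by
    rw [S.rule P.mem.1 hbQ, P.pia, hπb, hb, zb_one]
    calc qb * qa * z * qa = qb * (qa * (z * qa)) := by group
      _ = qb * (qa * qa) * z := by rw [← S.Qz P.mem.1]; group
      _ = qb := by rw [hqq, mul_assoc, S.loc.sq, mul_one]
  -- the subgroup of order eight
  set W := closure ({qa, qb} : Set G)
  have hWQ : W ≤ Q := (closure_le _).2 (by rintro _ (rfl | rfl); exacts [P.mem.1, hbQ])
  have hWg : W ≤ P.grp := (closure_le _).2 (by rintro _ (rfl | rfl); exacts [P.qa_grp, hbg])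
  have h8 : 8 ∣ Nat.card W := by
    have ha : qa ∈ W := subset_closure (by simp)
    have hb' : qb ∈ W := subset_closure (by simp)
    have hzW : z ∈ W := by
      have h := mul_mem ha ha
      rwa [hqq] at h
    have hW5 : 5 ≤ Nat.card W := by
      let f : Fin 5 → W := ![1, ⟨z, hzW⟩, ⟨qa, ha⟩, ⟨qa * z, mul_mem ha hzW⟩, ⟨qb, hb'⟩]
      have hpa : π (qa * z) = a := by rw [S.pi_mul _ P.mem.1 _ S.loc.mem, P.pia, S.pi_z, add_zero]
      have ha0 : a ≠ 0 := fun e => by rw [e, q_zero] at hq; exact zero_ne_one hq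
      have n1 : qa ≠ 1 := fun e => ha0 (P.pia.symm.trans (by rw [e, S.pi_one]))
      have n2 : qa ≠ z := fun e => ha0 (P.pia.symm.trans (by rw [e, S.pi_z]))
      have n3 : qa * z ≠ 1 := fun e => ha0 (hpa.symm.trans (by rw [e, S.pi_one]))
      have n4 : qa * z ≠ z := fun e => n1 (mul_eq_right.1 e)
      have n5 : qb ≠ 1 := fun e => hne.1 (hπb.symm.trans (by rw [e, S.pi_one]))
      have n6 : qb ≠ z := fun e => hne.1 (hπb.symm.trans (by rw [e, S.pi_z]))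
      have n7 : qb ≠ qa := fun e => hne.2 (hπb.symm.trans (by rw [e, P.pia]))
      have n8 : qb ≠ qa * z := fun e => hne.2 (hπb.symm.trans (by rw [e, hpa]))
      have n9 : qa ≠ qa * z := fun e => S.loc.ne_one (left_eq_mul.1 e)
      have hf : Function.Injective f := by
        intro i j e
        fin_cases i <;> fin_cases j <;>
          simp [f, Subtype.ext_iff, n1, n2, n3, n4, n5, n6, n7, n8, n9, n1.symm, n2.symm, n3.symm, n4.symm,
            n5.symm, n6.symm, n7.symm, n8.symm, n9.symm, S.loc.ne_one, S.loc.ne_one.symm] at e ⊢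
      simpa using Nat.card_le_card_of_injective f hf
    obtain ⟨k, -, hk⟩ := (Nat.dvd_prime_pow Nat.prime_two).1
      (show Nat.card W ∣ 2 ^ 7 by rw [← show Nat.card Q = 2 ^ 7 by rw [S.card]; norm_num]; exact card_dvd_of_le hWQ)
    rw [hk] at hW5 ⊢
    have : 3 ≤ k := by
      by_contra hlt
      have := Nat.pow_le_pow_right (show 2 ≥ 1 by norm_num) (show k ≤ 2 by omega)
      omega
    exact pow_dvd_pow 2 this
  have h24 : 24 ≤ Nat.card (closure ({qa, t} : Set G)) := by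
    refine Nat.le_of_dvd Nat.card_pos ?_
    show 24 ∣ Nat.card P.grp
    have h3 : 3 ∣ Nat.card P.grp := by
      rw [← P.three, ← Subgroup.orderOf_mk _ P.t_grp]
      exact orderOf_dvd_natCard _
    exact (show Nat.Coprime 8 3 by norm_num).mul_dvd_of_dvd_of_dvd (h8.trans (card_dvd_of_le hWg)) h3
  obtain ⟨φ, hφ, hr, -⟩ := NearField.exists_embed qa t (four_pow S P.mem.1) P.t_pow_three (by rw [show t * qa * t⁻¹ = qb from hqb]; exact h1) P.rel h24
  obtain ⟨e⟩ := NearField.equiv_sl23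
  exact ⟨((MulEquiv.subgroupCongr hr.symm).trans (MonoidHom.ofInjective hφ).symm).trans e⟩

end Pl

namespace Fy

variable (Z : Fy z Q π ρ x)
include Z

/-- An element of order three with the action of a rotation, in a given coset. -/
theorem exists_three {f : V → V} (hf : IsOm f) (hcomm : ∀ v, f (rot a0 v0 v) = rot a0 v0 (f v))
    (hf0 : f a0 = a0) (h3 : ∀ v, f (f (f v)) = v) {a : V} (hfa : f a ≠ a) :
    ∃ t ∈ Z.cen0, orderOf t = 3 ∧ ∀ v, ρ t v = f v := by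
  haveI : Fact (Nat.Prime 3) := ⟨Nat.prime_three⟩
  obtain ⟨c, hc, hρ⟩ := Z.lift_comm hf hcomm
  have hcz := Z.cen_z hc
  have h3Q : c ^ 3 ∈ Q := (Z.S.ker _ ((Commute.pow_left hcz 3).eq)).1 fun v => by
    rw [rho_pow Z.S hcz, funext hρ]
    exact h3 v
  have hx : ∀ v, ρ (c ^ 4) v = f v := fun v => by
    rw [rho_pow Z.S hcz, funext hρ]
    exact h3 _
  refine ⟨c ^ 4, ⟨pow_mem hc 4, by rw [hx, hf0]⟩, orderOf_eq_prime ?_ fun e => hfa ?_, hx⟩
  · rw [← pow_mul, mul_comm, pow_mul, four_pow Z.S h3Q]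
  · rw [← hx a, e, Z.S.rho_one]

theorem exists_pl {a b : V} (ha : Perp a) (hab : rot a b a = b) (haab : rot a b b = a + b)
    {t : G} (htc : t ∈ Z.cen0) (ht3 : orderOf t = 3) (ht : ∀ v, ρ t v = rot a b v) :
    ∃ qa, Pl Z a b qa t := by
  obtain ⟨q₀, hq₀, e⟩ := Z.S.pi_surj a
  have hU : q₀ ∈ Z.U := Z.mem_U.2 ⟨hq₀, e ▸ ha⟩
  have htz := Z.z0 htc
  set q₁ := t * q₀ * t⁻¹
  have h1 : q₁ ∈ Q := Z.S.conj_mem htz hq₀
  have e1 : π q₁ = b := by rw [Z.S.conj t htz q₀ hq₀, e, ht, hab]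
  have e2 : π (t * q₁ * t⁻¹) = π (q₀ * q₁) := by
    rw [Z.S.conj t htz q₁ h1, e1, Z.S.pi_mul _ hq₀ _ h1, e, e1, ht, haab]
  rcases Z.S.eq_of_pi (Z.S.conj_mem htz h1) (mul_mem hq₀ h1) e2 with h | h
  · exact ⟨q₀, hU, e, htc, ht3, ht, h⟩
  · refine ⟨q₀ * z, mul_mem hU Z.z_mem_U, by rw [Z.S.pi_mul _ hq₀ _ Z.S.loc.mem, e, Z.S.pi_z, add_zero],
      htc, ht3, ht, ?_⟩
    have hq1 : t * (q₀ * z) * t⁻¹ = q₁ * z := by
      calc t * (q₀ * z) * t⁻¹ = t * q₀ * t⁻¹ * (t * z * t⁻¹) := by group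
        _ = q₁ * z := by rw [zpi Z.S htz]
    rw [hq1, show t * (q₁ * z) * t⁻¹ = t * q₁ * t⁻¹ * (t * z * t⁻¹) by group, zpi Z.S htz, h,
      mul_assoc (q₀ * q₁) z z, Z.S.loc.sq, mul_one]
    calc q₀ * q₁ = q₀ * (q₁ * z) * z := by rw [mul_assoc, mul_assoc, Z.S.loc.sq, mul_one]
      _ = q₀ * (z * (q₁ * z)) := by rw [mul_assoc, ((show Commute q₁ z from Z.S.Qz h1).mul_left rfl).eq]
      _ = q₀ * z * (q₁ * z) := by group

end Fy

/-- The two factors, commuting elementwise. -/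
structure Two (Z : Fy z Q π ρ x) (qa ta qc tb : G) : Prop where
  A : Pl Z a1 b1 qa ta
  B : Pl Z a2 b2 qc tb
  comm : ta * tb = tb * ta

theorem Fy.exists_two (Z : Fy z Q π ρ x) : ∃ qa ta qc tb, Two Z qa ta qc tb := by
  obtain ⟨-, -, q1, -, q3, -⟩ := perp_facts
  obtain ⟨-, -, -, h1, h2, h3, h4, h5, h6⟩ := plane_facts
  obtain ⟨-, -, r1, r1', r2, r2', r3, r3', r4, r4'⟩ := rot_facts
  obtain ⟨p1, p2, p3, p4⟩ := rot_plane_ab
  have hadd : ∀ {a b : V}, q a = 1 → q b = 1 → ∀ u v, rot a b (u + v) = rot a b u + rot a b v :=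
    fun ha hb => IsOm.add' (isOm_rot ha hb)
  obtain ⟨ta, hta, hta3, hρa⟩ := Z.exists_three (f := rot a1 b1) (isOm_rot h1 h2)
    (fun v => ((rot_comm v).1).symm) p1 (rot_three h1 h2 h3) (a := a1) (by rw [r1]; decide +kernel)
  obtain ⟨tb₀, htb, htb3, hρb⟩ := Z.exists_three (f := rot a2 b2) (isOm_rot h4 h5)
    (fun v => ((rot_comm v).2.1).symm) p3 (rot_three h4 h5 h6) (a := a2) (by rw [r3]; decide +kernel)
  have hz1 := Z.z0 hta
  have hz2 := Z.z0 htb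
  -- correct `tb₀` to commute with `ta`
  have hd : tb₀ * ta * tb₀⁻¹ * ta⁻¹ ∈ Z.U := by
    refine Z.mem_U_of_rho (mul_mem (mul_mem (mul_mem htb.1 hta.1) (inv_mem htb.1)) (inv_mem hta.1)) fun v => ?_
    rw [Z.S.rho_mul (cmul Z.S (cmul Z.S hz2 hz1) (cinv Z.S hz2)) (cinv Z.S hz1),
      Z.S.rho_mul (cmul Z.S hz2 hz1) (cinv Z.S hz2), Z.S.rho_mul hz2 hz1, hρb, hρa, ← (rot_comm _).2.2,
      ← hρb, ← Z.S.rho_mul hz2 (cinv Z.S hz2), mul_inv_cancel, Z.S.rho_one, ← hρa,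
      ← Z.S.rho_mul hz1 (cinv Z.S hz1), mul_inv_cancel, Z.S.rho_one]
  obtain ⟨r, hr, e⟩ := three_conj (R := Z.U) (b := ta) (coprime_three Z.S inf_le_left) hta3
    (fun r hr => Z.U_normal hta.1 hr) hd (by
      rw [show tb₀ * ta * tb₀⁻¹ = MulAut.conj tb₀ ta by rfl, MulEquiv.orderOf_eq, hta3])
  set c := r * tb₀ with hc
  have hc0 : c ∈ Z.cen0 := mul_mem (Z.U_le0 hr) htb
  have hcta : c * ta = ta * c := mul_inv_eq_iff_eq_mul.1 (by
    calc c * ta * c⁻¹ = r * (tb₀ * ta * tb₀⁻¹) * r⁻¹ := by rw [hc]; group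
      _ = ta := e)
  have hcz := Z.z0 hc0
  have hρc : ∀ v, ρ c v = rot a2 b2 v := fun v => by
    rw [hc, Z.S.rho_mul (Z.S.Qz hr.1) hz2, (Z.S.ker r (Z.S.Qz hr.1)).2 hr.1, hρb]
  haveI : Fact (Nat.Prime 3) := ⟨Nat.prime_three⟩
  have h3Q : c ^ 3 ∈ Q := (Z.S.ker _ ((Commute.pow_left hcz 3).eq)).1 fun v => by
    rw [rho_pow Z.S hcz, funext hρc]
    exact rot_three h4 h5 h6 v
  have hρd : ∀ v, ρ (c ^ 4) v = rot a2 b2 v := fun v => by
    rw [rho_pow Z.S hcz, funext hρc]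
    exact rot_three h4 h5 h6 _
  have hd3 : orderOf (c ^ 4) = 3 := by
    refine orderOf_eq_prime (by rw [← pow_mul, mul_comm, pow_mul, four_pow Z.S h3Q]) fun e => ?_
    have h7 := hρd a2
    rw [e, Z.S.rho_one, r3] at h7
    exact absurd h7 (by decide +kernel)
  obtain ⟨qa, hA⟩ := Z.exists_pl q1 r1 r1' hta hta3 hρa
  obtain ⟨qc, hB⟩ := Z.exists_pl q3 r3 r3' (pow_mem hc0 4) hd3 hρd
  exact ⟨qa, ta, qc, c ^ 4, hA, hB, ((show Commute c ta from hcta).pow_left 4).eq.symm⟩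

namespace Two

variable {Z : Fy z Q π ρ x} {qa ta qc tb : G} (T : Two Z qa ta qc tb)
include T

theorem piqb : π T.A.qb = b1 ∧ π T.B.qb = b2 :=
  ⟨T.A.pib rot_facts.2.2.1, T.B.pib rot_facts.2.2.2.2.2.2.1⟩

theorem gen_comm : qa * qc = qc * qa ∧ ta * qc = qc * ta ∧ tb * qa = qa * tb := by
  have S := Z.S
  obtain ⟨-, -, -, -, r5, -, -, -, r9, -⟩ := rot_facts
  refine ⟨(S.comm_iff T.A.mem.1 T.B.mem.1).2 (by rw [T.A.pia, T.B.pia, orth_planes.1]), ?_, ?_⟩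
  · exact (fix_iff_comm S (Z.z0 T.A.tc) (by rw [T.A.three]; decide) T.B.mem.1).2 (by rw [T.B.pia, T.A.rt, r5])
  · exact (fix_iff_comm S (Z.z0 T.B.tc) (by rw [T.B.three]; decide) T.A.mem.1).2 (by rw [T.A.pia, T.B.rt, r9])

theorem elem_comm {a b : G} (ha : a ∈ T.A.grp) (hb : b ∈ T.B.grp) : a * b = b * a := by
  obtain ⟨c1, c2, c3⟩ := T.gen_comm
  have h : T.A.grp ≤ centralizer (T.B.grp : Set G) := by
    rw [Pl.grp, Pl.grp, centralizer_closure, closure_le]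
    rintro _ (rfl | rfl) <;> refine mem_centralizer_iff.2 ?_ <;> rintro _ (rfl | rfl)
    exacts [c1.symm, c3, c2.symm, T.comm.symm]
  exact (mem_centralizer_iff.1 (h ha) b hb).symm

theorem meet {h : G} (hA : h ∈ T.A.grp) (hB : h ∈ T.B.grp) : h = 1 ∨ h = z := by
  have S := Z.S
  obtain ⟨-, -, -, -, r5, r6, -, -, r9, r10⟩ := rot_facts
  obtain ⟨n, hn⟩ := T.A.grp_rho hA
  obtain ⟨k, hk⟩ := T.B.grp_rho hB
  have hU : h ∈ Z.U := Z.perp_ext (T.A.grp_le hA) (by rw [hk, Function.iterate_fixed r9])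
    (by rw [hk, Function.iterate_fixed r10]) (by rw [hn, Function.iterate_fixed r5])
    (by rw [hn, Function.iterate_fixed r6])
  have hbil : ∀ u ∈ Q, h * u = u * h → bil (π h) (π u) = 0 := fun u hu e => (S.comm_iff hU.1 hu).1 e
  refine (S.pi_eq h hU.1).1 (perp_split _ (Z.mem_U.1 hU).2 ?_ ?_ ?_ ?_)
  · rw [← T.A.pia]; exact hbil _ T.A.mem.1 (T.elem_comm T.A.qa_grp hB).symm
  · rw [← T.piqb.1]; exact hbil _ T.A.qb_mem.1 (T.elem_comm T.A.qb_grp hB).symm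
  · rw [← T.B.pia]; exact hbil _ T.B.mem.1 (T.elem_comm hA T.B.qa_grp)
  · rw [← T.piqb.2]; exact hbil _ T.B.qb_mem.1 (T.elem_comm hA T.B.qb_grp)

/-- The join of the factors. -/
abbrev J (T : Two Z qa ta qc tb) : Subgroup G := T.A.grp ⊔ T.B.grp

theorem J_le : T.J ≤ Z.cen0 := sup_le T.A.grp_le T.B.grp_le

theorem U_le_J : Z.U ≤ T.J := by
  intro u hu
  have S := Z.S
  obtain ⟨hp, h1, h2⟩ := decomp_perp _ (Z.mem_U.1 hu).2
  have hz : z ∈ T.J := mem_sup_left (T.A.z_grp plane_facts.2.2.2.1)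
  have key : ∀ {a b : V} {qa t : G} (P : Pl Z a b qa t), rot a b a = b → P.grp ≤ T.J →
      ∀ {w : V}, InPl a b w → ∃ d ∈ T.J, d ∈ Q ∧ π d = w := by
    intro a b qa t P hab hle w hw
    rcases hw with rfl | rfl | rfl | rfl
    · exact ⟨1, one_mem _, one_mem _, S.pi_one⟩
    · exact ⟨qa, hle P.qa_grp, P.mem.1, P.pia⟩
    · exact ⟨P.qb, hle P.qb_grp, P.qb_mem.1, P.pib hab⟩
    · exact ⟨qa * P.qb, hle (mul_mem P.qa_grp P.qb_grp), mul_mem P.mem.1 P.qb_mem.1, by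
        rw [S.pi_mul _ P.mem.1 _ P.qb_mem.1, P.pia, P.pib hab]⟩
  obtain ⟨d1, hd1, hq1, e1⟩ := key T.A rot_facts.2.2.1 le_sup_left h1
  obtain ⟨d2, hd2, hq2, e2⟩ := key T.B rot_facts.2.2.2.2.2.2.1 le_sup_right h2
  rcases S.eq_of_pi hu.1 (mul_mem hq1 hq2) (by rw [S.pi_mul _ hq1 _ hq2, e1, e2, hp]) with e | e <;> rw [e]
  exacts [mul_mem hd1 hd2, mul_mem (mul_mem hd1 hd2) hz]

theorem mem_of_flat {c : G} (hc : c ∈ Z.cen0) {i j : Fin 3}
    (h : ∀ v, ρ c v = em ((i, j), (false, false)) v) : c ∈ T.J := by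
  have hm : ta ^ (i : ℕ) * tb ^ (j : ℕ) ∈ Z.cen0 := mul_mem (pow_mem T.A.tc _) (pow_mem T.B.tc _)
  have hu : c * (ta ^ (i : ℕ) * tb ^ (j : ℕ))⁻¹ ∈ Z.U := Z.mem_U_of_rho (mul_mem hc.1 (inv_mem hm.1)) fun v => by
    obtain ⟨w, rfl⟩ : ∃ w, ρ (ta ^ (i : ℕ) * tb ^ (j : ℕ)) w = v := ⟨ρ (ta ^ (i : ℕ) * tb ^ (j : ℕ))⁻¹ v, by
      rw [← Z.S.rho_mul (Z.z0 hm) (Z.z0 (inv_mem hm)), mul_inv_cancel, Z.S.rho_one]⟩
    rw [← Z.S.rho_mul (cmul Z.S (Z.z0 hc) (cinv Z.S (Z.z0 hm))) (Z.z0 hm), inv_mul_cancel_right, h, em_rot,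
      Z.S.rho_mul (Z.z0 (pow_mem T.A.tc _)) (Z.z0 (pow_mem T.B.tc _)), rho_pow Z.S (Z.z0 T.A.tc),
      rho_pow Z.S (Z.z0 T.B.tc), funext T.A.rt, funext T.B.rt]
  have := mul_mem (T.U_le_J hu) (show ta ^ (i : ℕ) * tb ^ (j : ℕ) ∈ T.J from
    mul_mem (mem_sup_left (pow_mem T.A.t_grp _)) (mem_sup_right (pow_mem T.B.t_grp _)))
  rwa [inv_mul_cancel_right] at this

theorem odd_mem {c : G} (hc : c ∈ Z.cen0) (hodd : Odd (orderOf c)) : c ∈ T.J := by
  obtain ⟨p, hp⟩ := Z.idx0 hc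
  have h3 : ∀ v, em p (em p (em p v)) = v := fun v => by
    have hk : Function.IsPeriodicPt (em p) (orderOf c) v := by
      show (em p)^[orderOf c] v = v
      rw [← funext hp, ← rho_pow Z.S (Z.z0 hc), pow_orderOf_eq_one, Z.S.rho_one]
    have hg := hk.gcd (show Function.IsPeriodicPt (em p) 12 v from em_twelve p v)
    have hdvd : Nat.gcd (orderOf c) 12 ∣ 3 := by
      refine (Nat.Coprime.dvd_of_dvd_mul_left ?_
        (show Nat.gcd (orderOf c) 12 ∣ 4 * 3 from Nat.gcd_dvd_right _ _))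
      refine Nat.Coprime.coprime_dvd_left (Nat.gcd_dvd_left _ _) ?_
      exact Nat.Coprime.pow_right 2 (Nat.coprime_two_right.2 hodd)
    exact hg.trans_dvd hdvd
  obtain ⟨⟨i, j⟩, w⟩ := p
  obtain rfl : w = (false, false) := em_three _ h3
  exact T.mem_of_flat hc hp

theorem J_eq_closure : T.J = closure {c | c ∈ Z.cen0 ∧ Odd (orderOf c)} := by
  refine le_antisymm ?_ ((closure_le _).2 fun c hc => T.odd_mem hc.1 hc.2)
  have key : ∀ {a b : V} {u t : G} (P : Pl Z a b u t),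
      P.grp ≤ closure {c | c ∈ Z.cen0 ∧ Odd (orderOf c)} := by
    intro a b u t P
    have ht : t ∈ closure {c | c ∈ Z.cen0 ∧ Odd (orderOf c)} :=
      subset_closure ⟨P.tc, by rw [P.three]; decide⟩
    have hq' : u * t * u⁻¹ ∈ closure {c | c ∈ Z.cen0 ∧ Odd (orderOf c)} :=
      subset_closure ⟨mul_mem (mul_mem (Z.U_le0 P.mem) P.tc) (inv_mem (Z.U_le0 P.mem)), by
        rw [show u * t * u⁻¹ = MulAut.conj u t from rfl, MulEquiv.orderOf_eq, P.three]; decide⟩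
    have hd : t * (u * t * u⁻¹ * t⁻¹) * t⁻¹ ∈ closure {c | c ∈ Z.cen0 ∧ Odd (orderOf c)} :=
      mul_mem (mul_mem ht (mul_mem hq' (inv_mem ht))) (inv_mem ht)
    refine (closure_le _).2 ?_
    intro w hw
    rcases hw with hw | hw <;> rw [hw]
    · rw [show u = (t * (u * t * u⁻¹ * t⁻¹) * t⁻¹)⁻¹ from ?_]
      · exact inv_mem hd
      · rw [eq_inv_iff_mul_eq_one]
        calc u * (t * (u * t * u⁻¹ * t⁻¹) * t⁻¹)
            = u * (t * u * t⁻¹) * (t * (t * u * t⁻¹) * t⁻¹)⁻¹ := by group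
          _ = 1 := by rw [P.rel, mul_inv_cancel]
    · exact ht
  exact sup_le (key T.A) (key T.B)

theorem two_elt {c : G} (hc : c ∈ T.J) {n : ℕ} (hn : c ^ (2 ^ n) = 1) : c ∈ Z.U := by
  have hc0 := T.J_le hc
  have hflat : ∃ i j : Fin 3, ∀ v, ρ c v = em ((i, j), (false, false)) v := by
    obtain ⟨a, ha, b, hb, rfl⟩ : ∃ a ∈ T.A.grp, ∃ b ∈ T.B.grp, a * b = c := by
      have hle : T.A.grp ≤ normalizer (T.B.grp : Set G) := fun a ha => by
        refine Subgroup.mem_normalizer_iff.2 fun b => ⟨fun hb => ?_, fun hb => ?_⟩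
        · rwa [T.elem_comm ha hb, mul_inv_cancel_right]
        · have := T.elem_comm (inv_mem ha) hb
          rw [show b = a⁻¹ * (a * b * a⁻¹) * a by group, this, inv_mul_cancel_right]
          exact hb
      have hc' : c ∈ ((T.A.grp ⊔ T.B.grp : Subgroup G) : Set G) := hc
      rw [Subgroup.coe_mul_of_left_le_normalizer_right T.A.grp T.B.grp hle] at hc'
      obtain ⟨a, ha, b, hb, e⟩ := hc'
      exact ⟨a, ha, b, hb, e⟩
    obtain ⟨k, hk⟩ := T.A.grp_rho ha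
    obtain ⟨l, hl⟩ := T.B.grp_rho hb
    obtain ⟨-, -, -, h1, h2, h3, h4, h5, h6⟩ := plane_facts
    have hmod : ∀ {a b : V}, (∀ v, rot a b (rot a b (rot a b v)) = v) → ∀ (k : ℕ) (v : V),
        (rot a b)^[k % 3] v = (rot a b)^[k] v := fun {a b} h k v => by
      conv_rhs => rw [← Nat.mod_add_div k 3, Function.iterate_add_apply, Function.iterate_mul]
      rw [Function.iterate_fixed (f := (rot a b)^[3]) (h v)]
    refine ⟨⟨k % 3, Nat.mod_lt _ (by norm_num)⟩, ⟨l % 3, Nat.mod_lt _ (by norm_num)⟩, fun v => ?_⟩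
    rw [Z.S.rho_mul (Z.z0 (T.A.grp_le ha)) (Z.z0 (T.B.grp_le hb)), hl, hk, em_rot]
    show _ = (rot a1 b1)^[k % 3] ((rot a2 b2)^[l % 3] v)
    rw [hmod (rot_three h1 h2 h3), hmod (rot_three h4 h5 h6)]
  obtain ⟨i, j, hij⟩ := hflat
  obtain ⟨q1, q2, q3, q4⟩ := em_flat_three i j
  have h3 : ∀ v, em ((i, j), (false, false)) (em ((i, j), (false, false)) (em ((i, j), (false, false)) v)) = v :=
    eq_of_basis (f := fun v => em ((i, j), (false, false)) (em ((i, j), (false, false)) (em ((i, j), (false, false)) v)))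
      (g := fun v => v) (fun u v => by simp only [em_add]) (fun _ _ => rfl) (by simp only [(em_plane _).1])
      (by simp only [(em_plane _).2]) q1 q2 q3 q4
  refine Z.mem_U_of_rho hc0.1 fun v => ?_
  rw [hij]
  have hk : Function.IsPeriodicPt (em ((i, j), (false, false))) (2 ^ n) v := by
    show (em _)^[2 ^ n] v = v
    rw [← funext hij, ← rho_pow Z.S (Z.z0 hc0), hn, Z.S.rho_one]
  have hg := hk.gcd (show Function.IsPeriodicPt (em ((i, j), (false, false))) 3 v from h3 v)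
  rw [show Nat.gcd (2 ^ n) 3 = 1 from Nat.Coprime.pow_left n (by norm_num)] at hg
  exact hg

/-- The subgroup `U` is the generalised Fitting subgroup of the complement. -/
theorem fstar : Cfsg.generalizedFittingSubgroup Z.cen0 = Z.U.subgroupOf Z.cen0 := by
  haveI : Fact (Nat.Prime 2) := ⟨Nat.prime_two⟩
  set QU := Z.U.subgroupOf Z.cen0 with hQU
  have hU2 : IsPGroup 2 QU := IsPGroup.of_card (n := 5) (by
    rw [hQU, Nat.card_congr (Subgroup.subgroupOfEquivOfLe (fun u hu => Z.U_le0 hu)).toEquiv, Z.card_U]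
    norm_num)
  haveI : Group.IsNilpotent QU := hU2.isNilpotent
  haveI hn : QU.Normal := ⟨fun u hu c => mem_subgroupOf.2 (Z.U_normal c.2.1 (mem_subgroupOf.1 hu))⟩
  have hC : centralizer (QU : Set Z.cen0) ≤ QU := fun c hc => mem_subgroupOf.2 (Z.self_cent c.2 fun u hu =>
    (congrArg Subtype.val (mem_centralizer_iff.1 hc ⟨u, Z.U_le0 hu⟩ (mem_subgroupOf.2 hu))).symm)
  refine le_antisymm (sup_le ?_ ?_) (le_sup_of_le_right (le_sSup ⟨hn, inferInstance⟩))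
  · refine Components.layer_le_iff.2 fun M hM => ?_
    rcases Components.component_le_or_commute hM hn.isSubnormal with h | h
    · exact h
    · exact (Subgroup.commutator_eq_bot_iff_le_centralizer.1 h).trans hC
  refine sSup_le ?_
  rintro R ⟨hR, hnil⟩
  haveI := hR
  haveI := hnil
  have hodd : ∀ r ∈ R, Odd (orderOf r) → r = 1 := by
    intro r hr hro
    have hrU : r ∈ QU := hC (mem_centralizer_iff.2 fun u hu => by
      obtain ⟨d, hd⟩ : ∃ d, r * u * r⁻¹ * u⁻¹ = d := ⟨_, rfl⟩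
      have hru : r * u * r⁻¹ = d * u := by rw [← hd]; group
      have hdU : d ∈ QU := hd ▸ mul_mem (hn.conj_mem u hu r) (inv_mem hu)
      have hdR : d ∈ R := by
        rw [← hd, show r * u * r⁻¹ * u⁻¹ = r * (u * r⁻¹ * u⁻¹) by group]
        exact mul_mem hr (hR.conj_mem _ (inv_mem hr) u)
      have hd4 : d ^ 4 = 1 := Subtype.ext (by
        rw [SubmonoidClass.coe_pow]; exact four_pow Z.S (mem_subgroupOf.1 hdU).1)
      have hc : Commute r d := CN.commute_of_coprime hnil hr hdR (by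
        refine Nat.Coprime.coprime_dvd_right (orderOf_dvd_of_pow_eq_one hd4) ?_
        exact Nat.Coprime.pow_right 2 (Nat.coprime_two_right.2 hro))
      have hrec : ∀ k : ℕ, r ^ k * u * (r ^ k)⁻¹ = d ^ k * u := by
        intro k
        induction k with
        | zero => simp
        | succ k ih =>
          calc r ^ (k + 1) * u * (r ^ (k + 1))⁻¹ = r * (r ^ k * u * (r ^ k)⁻¹) * r⁻¹ := by
                rw [pow_succ']; group
            _ = r * d ^ k * r⁻¹ * (r * u * r⁻¹) := by rw [ih]; group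
            _ = d ^ k * (d * u) := by rw [(hc.pow_right k).eq, mul_inv_cancel_right, hru]
            _ = d ^ (k + 1) * u := by rw [pow_succ, mul_assoc]
      have h1 := hrec (orderOf r)
      rw [pow_orderOf_eq_one, inv_one, one_mul, mul_one, right_eq_mul] at h1
      have hd1 : d = 1 := eq_one_of_pow h1 hd4 (Nat.Coprime.pow_right 2 (Nat.coprime_two_right.2 hro))
      have h2 : r * u * r⁻¹ = u := by
        rw [hru, hd1, one_mul]
      exact (mul_inv_eq_iff_eq_mul.1 h2).symm)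
    refine eq_one_of_pow (pow_orderOf_eq_one r) (n := 4) ?_ (Nat.Coprime.pow_right 2 (Nat.coprime_two_right.2 hro))
    exact Subtype.ext (by rw [SubmonoidClass.coe_pow]; exact four_pow Z.S (mem_subgroupOf.1 hrU).1)
  have htwo : ∀ r ∈ R, ∃ n : ℕ, r ^ (2 ^ n) = 1 := fun r hr => by
    obtain ⟨k, m, hm, he⟩ := Nat.exists_eq_pow_mul_and_not_dvd (orderOf_pos r).ne' 2 (by norm_num)
    refine ⟨k, hodd _ (pow_mem hr _) ?_⟩
    have hm' : Odd m := Nat.odd_iff.2 (Nat.two_dvd_ne_zero.1 hm)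
    refine hm'.of_dvd_nat (orderOf_dvd_of_pow_eq_one ?_)
    rw [← pow_mul, ← he, pow_orderOf_eq_one]
  intro r hr
  refine mem_subgroupOf.2 ?_
  obtain ⟨n, hn'⟩ := htwo r hr
  have hrn : (r : G) ^ (2 ^ n) = 1 := by rw [← SubmonoidClass.coe_pow, hn']; rfl
  have hcomm : ∀ t : G, t ∈ Z.cen0 → Odd (orderOf t) → ∀ v, ρ (r : G) (ρ t v) = ρ t (ρ (r : G) v) := by
    intro t ht hto v
    have hc1 : (r : G) * t * (r : G)⁻¹ ∈ T.J := T.odd_mem (mul_mem (mul_mem r.2 ht) (inv_mem r.2)) (by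
      rw [show (r : G) * t * (r : G)⁻¹ = MulAut.conj (r : G) t from rfl, MulEquiv.orderOf_eq]; exact hto)
    set d : Z.cen0 := r * ⟨t, ht⟩ * r⁻¹ * ⟨t, ht⟩⁻¹ with hd
    have hdR : d ∈ R := by
      rw [hd, show r * ⟨t, ht⟩ * r⁻¹ * (⟨t, ht⟩ : Z.cen0)⁻¹ = r * (⟨t, ht⟩ * r⁻¹ * (⟨t, ht⟩ : Z.cen0)⁻¹) by group]
      exact mul_mem hr (hR.conj_mem _ (inv_mem hr) _)
    obtain ⟨k, hk⟩ := htwo d hdR
    have hdU : (d : G) ∈ Z.U := T.two_elt (mul_mem hc1 (inv_mem (T.odd_mem ht hto))) (n := k) (by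
      rw [← show ((d ^ (2 ^ k) : Z.cen0) : G) = (d : G) ^ (2 ^ k) from SubmonoidClass.coe_pow _ _, hk]; rfl)
    have hρd := (Z.S.ker _ (Z.z0 d.2)).2 hdU.1 (ρ t (ρ (r : G) v))
    have hrz := Z.z0 r.2
    have htz := Z.z0 ht
    rw [← Z.S.rho_mul htz hrz, ← Z.S.rho_mul (Z.z0 d.2) (cmul Z.S htz hrz),
      show (d : G) * (t * r) = r * t by rw [hd]; simp [mul_assoc], Z.S.rho_mul hrz htz,
      Z.S.rho_mul htz hrz] at hρd
    exact hρd
  obtain ⟨p, hp⟩ := Z.idx0 r.2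
  have hA := hcomm ta T.A.tc (by rw [T.A.three]; decide)
  have hB := hcomm tb T.B.tc (by rw [T.B.three]; decide)
  simp only [T.A.rt, T.B.rt, hp] at hA hB
  obtain ⟨⟨i, j⟩, w⟩ := p
  obtain rfl : w = (false, false) := em_centre _ (hA _) (hA _) (hB _) (hB _)
  exact T.two_elt (T.mem_of_flat r.2 hp) hrn

end Two

end Cfsg.Agent.SuzY
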