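import Cfsg.Agent.Lib.SuzY.Derived
import Cfsg.Agent.Lib.SuzT.Wrap
import Cfsg.Agent.Lib.Components.Basic
import Cfsg.Agent.S0283

/-!
In a group of Suzuki sporadic type, an element of order three with small non-abelian commutator with the
extraspecial subgroup has quasisimple centraliser of index two in its normaliser; the quotient by the
group of the element satisfies the hypothesis of unitary type U₄(3).
-/

set_option autoImplicit false
set_option linter.style.haveILetI false
set_option linter.unusedSectionVars false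
set_option linter.unusedVariables false
set_option maxRecDepth 20000
set_option synthInstance.maxSize 4000
set_option synthInstance.maxHeartbeats 400000

namespace Cfsg.Agent.SuzY

open Subgroup
open scoped commutatorElement

universe u

/-- A perfect central extension of a non-abelian simple group is quasisimple. -/
theorem quasisimple_of_central {H : Type*} [Group H] {B : Subgroup H} [B.Normal]
    (hBc : B ≤ center H) (hBd : B ≤ _root_.commutator H) (hs : IsSimpleGroup (H ⧸ B))
    (hna : ¬ IsMulCommutative (H ⧸ B)) : Cfsg.IsQuasisimple H := by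
  haveI := hs
  have hperf : _root_.commutator H = ⊤ := by
    rcases (Subgroup.Normal.map (inferInstance : (_root_.commutator H).Normal) (QuotientGroup.mk' B)
      (QuotientGroup.mk'_surjective B)).eq_bot_or_eq_top with e | e
    · exfalso
      refine hna ⟨⟨fun a b => ?_⟩⟩
      obtain ⟨a, rfl⟩ := QuotientGroup.mk'_surjective B a
      obtain ⟨b, rfl⟩ := QuotientGroup.mk'_surjective B b
      have h : QuotientGroup.mk' B ⁅a, b⁆ ∈ (⊥ : Subgroup (H ⧸ B)) :=
        e ▸ mem_map_of_mem _ (Subgroup.commutator_mem_commutator (mem_top a) (mem_top b))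
      rw [mem_bot, map_commutatorElement] at h
      exact commutatorElement_eq_one_iff_mul_comm.1 h
    · refine eq_top_iff.2 fun a _ => ?_
      obtain ⟨b, hb, hab⟩ : QuotientGroup.mk' B a ∈ (_root_.commutator H).map (QuotientGroup.mk' B) :=
        e ▸ mem_top _
      have h : b⁻¹ * a ∈ B := (QuotientGroup.eq (s := B)).1 hab
      simpa using mul_mem hb (hBd h)
  have hcen : center H = B := by
    refine le_antisymm (fun a ha => ?_) hBc
    rcases (Subgroup.Normal.map (inferInstance : (center H).Normal) (QuotientGroup.mk' B)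
      (QuotientGroup.mk'_surjective B)).eq_bot_or_eq_top with e | e
    · exact (QuotientGroup.eq_one_iff a).1 (mem_bot.1 (e ▸ mem_map_of_mem (QuotientGroup.mk' B) ha))
    · exfalso
      refine hna ⟨⟨fun u v => ?_⟩⟩
      obtain ⟨v, rfl⟩ := QuotientGroup.mk'_surjective B v
      obtain ⟨u', hu', rfl⟩ : u ∈ (center H).map (QuotientGroup.mk' B) := e ▸ mem_top _
      rw [← map_mul, ← map_mul, Subgroup.mem_center_iff.1 hu' v]
  refine ⟨⟨hperf⟩, ?_⟩
  let e := QuotientGroup.quotientMulEquivOfEq hcen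
  haveI : Nontrivial (H ⧸ center H) := e.toEquiv.nontrivial
  exact IsSimpleGroup.isSimpleGroup_of_surjective e.symm.toMonoidHom e.symm.surjective

variable {G : Type u} [Group G] [Finite G]

/-- The centraliser of `y` has index two in its normaliser as soon as some element inverts `y`. -/
theorem relIndex_two {y a : G} (hy : orderOf y = 3) (ha : a * y * a⁻¹ = y⁻¹) :
    (centralizer ({y} : Set G)).relIndex (normalizer (zpowers y : Set G)) = 2 := by
  have hy3 : y ^ 3 = 1 := by rw [← hy, pow_orderOf_eq_one]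
  have hy1 : y ≠ 1 := fun h => by rw [h, orderOf_one] at hy; omega
  have hne : y⁻¹ ≠ y := fun h => by
    have h2 : y ^ 2 = 1 := by
      rw [pow_two]
      have := mul_inv_cancel y
      rwa [h] at this
    exact hy1 (CoFive.eq_one_of_pow h2 hy3 (by norm_num))
  have hcases : ∀ b ∈ normalizer (zpowers y : Set G), b * y * b⁻¹ = y ∨ b * y * b⁻¹ = y⁻¹ := by
    intro b hb
    classical
    obtain ⟨k, hk, hk'⟩ := Finset.mem_image.1 ((isOfFinOrder_of_finite y).mem_zpowers_iff_mem_range_orderOf.1
      ((Subgroup.mem_normalizer_iff.1 hb y).1 (mem_zpowers y)))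
    rw [Finset.mem_range, hy] at hk
    rcases k with _ | _ | _ | k
    · exfalso; exact hy1 (conj_eq_one_iff.1 (by rw [← hk', pow_zero]))
    · exact Or.inl (by rw [← hk', pow_one])
    · refine Or.inr ?_
      rw [← hk']
      exact eq_inv_of_mul_eq_one_left (by rw [← pow_succ]; exact hy3)
    · omega
  have hmemC : ∀ b : G, b ∈ centralizer ({y} : Set G) ↔ b * y * b⁻¹ = y := fun b => by
    rw [mem_centralizer_singleton_iff, mul_inv_eq_iff_eq_mul]
  have haN : a ∈ normalizer (zpowers y : Set G) := by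
    refine Subgroup.mem_normalizer_iff_map_conj_eq.2 ?_
    rw [MonoidHom.map_zpowers]
    show zpowers (a * y * a⁻¹) = zpowers y
    rw [ha, zpowers_inv]
  rw [Subgroup.relIndex, Subgroup.index_eq_two_iff]
  refine ⟨⟨a, haN⟩, fun b => ?_⟩
  rw [mem_subgroupOf, mem_subgroupOf, hmemC, hmemC]
  have e : ((b : G) * a) * y * ((b : G) * a)⁻¹ = ((b : G) * y * (b : G)⁻¹)⁻¹ := by
    rw [show (b : G) * a * y * ((b : G) * a)⁻¹ = b * (a * y * a⁻¹) * (b : G)⁻¹ by group, ha, conj_inv]
  show Xor _ _
  rw [Subgroup.coe_mul, e]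
  rcases hcases b b.2 with h | h <;> rw [h]
  · exact Or.inr ⟨rfl, fun h' => hne h'⟩
  · rw [inv_inv]
    exact Or.inl ⟨rfl, hne⟩

/-- The three conclusions, with the identification of groups of unitary type U₄(3) supplied. -/
theorem u43_of (F : Type) [Field F] [Fintype F] (hF9 : Fintype.card F = 9)
    (ident : ∀ {K : Type u} [Group K] [Finite K], U43Like K → Nonempty (K ≃* Cfsg.PSU 4 F 3))
    (z : G) (hz : orderOf z = 2) (Q : Subgroup (Subgroup.centralizer ({z} : Set G))) [Q.Normal]
    (hF : Cfsg.generalizedFittingSubgroup (Subgroup.centralizer ({z} : Set G)) = Q)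
    (hQ : Cfsg.IsExtraspecial 2 Q) (hcard : Nat.card Q = 2 ^ 7)
    (e : (Subgroup.centralizer ({z} : Set G)) ⧸ Q ≃* Cfsg.Omega (ZMod 2) (Cfsg.quadFormMinus 2 (ZMod 2) 1 1))
    (hnwc : ∃ g : G, (∃ hq : g * z * g⁻¹ ∈ Subgroup.centralizer ({z} : Set G),
      (⟨g * z * g⁻¹, hq⟩ : Subgroup.centralizer ({z} : Set G)) ∈ Q) ∧ g * z * g⁻¹ ≠ z)
    (Y : Subgroup (Subgroup.centralizer ({z} : Set G))) (hY : Nat.card Y = 3)
    (hQY : Nat.card ↥⁅Q, Y⁆ = 8) (hQYna : ¬ IsMulCommutative ↥⁅Q, Y⁆)
    [((Y.map (Subgroup.centralizer ({z} : Set G)).subtype).subgroupOf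
      (Subgroup.centralizer ((Y.map (Subgroup.centralizer ({z} : Set G)).subtype) : Set G))).Normal] :
    Cfsg.IsQuasisimple ↥(Subgroup.centralizer ((Y.map (Subgroup.centralizer ({z} : Set G)).subtype) : Set G)) ∧
      Nonempty (↥(Subgroup.centralizer ((Y.map (Subgroup.centralizer ({z} : Set G)).subtype) : Set G)) ⧸
        (Y.map (Subgroup.centralizer ({z} : Set G)).subtype).subgroupOf
          (Subgroup.centralizer ((Y.map (Subgroup.centralizer ({z} : Set G)).subtype) : Set G)) ≃*
        Cfsg.PSU 4 F 3) ∧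
      (Subgroup.centralizer ((Y.map (Subgroup.centralizer ({z} : Set G)).subtype) : Set G)).relIndex
        (Subgroup.normalizer ((Y.map (Subgroup.centralizer ({z} : Set G)).subtype) : Set G)) = 2 := by
  classical
  haveI : Fact (Nat.Prime 3) := ⟨Nat.prime_three⟩
  obtain ⟨π, ρ, S⟩ := SuzT.exists_su hz Q hF hQ hcard e
  obtain ⟨g₀, ⟨hq, hgQ⟩, hgne⟩ := hnwc
  obtain ⟨s, g, X⟩ := SuzT.exists_frame S ⟨g₀, Subgroup.mem_map_of_mem _ hgQ, hgne⟩
  obtain ⟨x, Z⟩ := exists_fy S
  haveI : IsCyclic Y := isCyclic_of_prime_card hY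
  obtain ⟨y₀, hgen⟩ := IsCyclic.exists_generator (α := Y)
  set y : G := ((y₀ : Subgroup.centralizer ({z} : Set G)) : G) with hy
  have hyz : y * z = z * y := mem_centralizer_singleton_iff.1 (y₀ : Subgroup.centralizer ({z} : Set G)).2
  have hy3 : orderOf y = 3 := by
    rw [hy, Subgroup.orderOf_coe, Subgroup.orderOf_coe, orderOf_eq_card_of_forall_mem_zpowers hgen, hY]
  have hY' : Y.map (Subgroup.centralizer ({z} : Set G)).subtype = zpowers y := by
    refine le_antisymm ?_ (zpowers_le.2 ⟨_, y₀.2, rfl⟩)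
    rintro _ ⟨a, ha, rfl⟩
    obtain ⟨i, hi⟩ := mem_zpowers_iff.1 (hgen ⟨a, ha⟩)
    exact mem_zpowers_iff.2 ⟨i, by simpa [hy] using congrArg (fun t : Y => ((t : Subgroup.centralizer ({z} : Set G)) : G)) hi⟩
  have hle : ⁅Q, Y⁆ ≤ Q := Subgroup.commutator_le_left Q Y
  have h32 : 32 ≤ Nat.card ↥(Q.map (Subgroup.centralizer ({z} : Set G)).subtype ⊓ centralizer ({y} : Set G)) := by
    refine fix_of_small S hyz hy3 (T := (⁅Q, Y⁆).map (Subgroup.centralizer ({z} : Set G)).subtype)
      (Subgroup.map_mono hle) ?_ ?_ ?_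
    · rw [card_map_of_injective (Subgroup.centralizer ({z} : Set G)).subtype_injective, hQY]
    · by_contra hc
      push Not at hc
      exact hQYna ⟨⟨fun a b => Subtype.ext ((Subgroup.centralizer ({z} : Set G)).subtype_injective (by
        simpa [map_mul] using hc _ (mem_map_of_mem (Subgroup.centralizer ({z} : Set G)).subtype a.2) _
          (mem_map_of_mem (Subgroup.centralizer ({z} : Set G)).subtype b.2)))⟩⟩
    · rintro _ ⟨u, hu, rfl⟩
      exact ⟨⁅u, (y₀ : Subgroup.centralizer ({z} : Set G))⁆, Subgroup.commutator_mem_commutator hu y₀.2, by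
        rw [map_commutatorElement, commutatorElement_def]; rfl⟩
  obtain ⟨h, -, hconj⟩ := Z.conj_of_fix hyz hy3 h32
  -- the quotient of the centraliser of `x`
  obtain ⟨i⟩ := ident (Z.u43Like X)
  haveI hps : IsSimpleGroup (Cfsg.PSU 4 F 3) := S0283.result (q := 3) (by rw [hF9]; norm_num) 4 (by norm_num) (by omega)
  have hsimp := i.isSimpleGroup_congr.2 hps
  have hqs : Cfsg.IsQuasisimple ↥(centralizer ({x} : Set G)) := by
    refine quasisimple_of_central (B := (zpowers x).subgroupOf (centralizer ({x} : Set G))) ?_ ?_ hsimp ?_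
    · intro b hb
      rw [Subgroup.mem_center_iff]
      intro a
      obtain ⟨n, hn⟩ := mem_zpowers_iff.1 (mem_subgroupOf.1 hb)
      refine Subtype.ext ?_
      show (a : G) * b = b * a
      rw [← hn]
      exact (Commute.zpow_right (mem_centralizer_singleton_iff.1 a.2) n).eq
    · intro b hb
      have h := zpowers_le.2 (Z.derived X) (mem_subgroupOf.1 hb)
      rw [← Subgroup.map_subtype_commutator] at h
      exact (mem_map_iff_mem (centralizer ({x} : Set G)).subtype_injective).1 h
    · intro hc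
      obtain ⟨zK, hzB, hzK, hord, e', -⟩ := Z.exists_equiv
      obtain ⟨qa, ta, qc, tb, T⟩ := Z.exists_two
      have h1 : e' ⟨ta, T.A.tc⟩ * e' ⟨qa, Z.U_le0 T.A.mem⟩ = e' ⟨qa, Z.U_le0 T.A.mem⟩ * e' ⟨ta, T.A.tc⟩ :=
        Subtype.ext (hc.is_comm.comm _ _)
      rw [← map_mul, ← map_mul] at h1
      have h2 : ta * qa * ta⁻¹ = qa := mul_inv_eq_iff_eq_mul.2 (congrArg Subtype.val (e'.injective h1))
      have h3 := T.piqb.1
      rw [show T.A.qb = qa from h2, T.A.pia] at h3
      exact plane_ne.2.1 h3.symm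
  -- transport
  set A := centralizer ((Y.map (Subgroup.centralizer ({z} : Set G)).subtype : Subgroup G) : Set G) with hA
  set B := centralizer ({x} : Set G) with hB
  have hA' : A = centralizer ({y} : Set G) :=
    (congrArg (fun H : Subgroup G => centralizer (H : Set G)) hY').trans
      (by rw [zpowers_eq_closure, centralizer_closure])
  have hmap : A.map (MulAut.conj h).toMonoidHom = B := by
    ext a
    rw [hA', hB, mem_map_equiv, mem_centralizer_singleton_iff, mem_centralizer_singleton_iff, ← hconj,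
      MulAut.conj_symm_apply]
    rw [show a * (h * y * h⁻¹) = h * ((h⁻¹ * a * h) * y) * h⁻¹ by group,
      show h * y * h⁻¹ * a = h * (y * (h⁻¹ * a * h)) * h⁻¹ by group, mul_left_inj, mul_right_inj]
  let eAB : A ≃* B := (A.equivMapOfInjective _ (MulAut.conj h).injective).trans (MulEquiv.subgroupCongr hmap)
  have heAB : ∀ a : A, (eAB a : G) = h * a * h⁻¹ := fun a => rfl
  refine ⟨(Components.quasisimple_congr eAB).2 hqs, ⟨(QuotientGroup.congr _ _ eAB ?_).trans i⟩, ?_⟩
  · ext b
    rw [mem_map, mem_subgroupOf]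
    constructor
    · rintro ⟨a, ha, rfl⟩
      obtain ⟨k, hk⟩ := mem_zpowers_iff.1 (hY'.le (mem_subgroupOf.1 ha))
      refine mem_zpowers_iff.2 ⟨k, ?_⟩
      refine (congrArg (fun w => w ^ k) hconj.symm).trans ?_
      rw [conj_zpow, hk]
      exact (heAB a).symm
    · intro hb
      obtain ⟨k, hk⟩ := mem_zpowers_iff.1 hb
      refine ⟨eAB.symm b, mem_subgroupOf.2 (hY'.ge (mem_zpowers_iff.2 ⟨k, ?_⟩)), eAB.apply_symm_apply b⟩
      have h2 := heAB (eAB.symm b)
      rw [eAB.apply_symm_apply] at h2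
      refine mul_left_cancel (a := h) (mul_right_cancel (b := h⁻¹) ?_)
      rw [← conj_zpow]
      exact (congrArg (fun w => w ^ k) hconj).trans (hk.trans h2)
  · obtain ⟨c, -, hc⟩ := Z.exists_invert
    refine (congrArg (fun H : Subgroup G => H.relIndex _) hA').trans ?_
    rw [show normalizer ((Y.map (Subgroup.centralizer ({z} : Set G)).subtype : Subgroup G) : Set G) =
      normalizer (zpowers y : Set G) from congrArg (fun H : Subgroup G => normalizer (H : Set G)) hY']
    refine relIndex_two (a := h⁻¹ * c * h) hy3 ?_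
    calc h⁻¹ * c * h * y * (h⁻¹ * c * h)⁻¹ = h⁻¹ * (c * (h * y * h⁻¹) * c⁻¹) * h := by group
      _ = (h⁻¹ * x * h)⁻¹ := by rw [hconj, hc]; group
      _ = y⁻¹ := by rw [← hconj]; group

end Cfsg.Agent.SuzY
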