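import Cfsg.Agent.Lib.SuzY.Space
import Cfsg.Agent.Lib.CoThree.Setting

/-!
An element of order three of the centraliser whose fixed points on the extraspecial subgroup form a
group of order 32, and its centraliser in the centraliser of the involution.
-/

set_option autoImplicit false
set_option linter.style.haveILetI false
set_option linter.unusedSectionVars false
set_option linter.unusedVariables false
set_option maxRecDepth 20000
set_option synthInstance.maxSize 4000
set_option synthInstance.maxHeartbeats 400000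

namespace Cfsg.Agent.SuzY

open Cfsg.Agent.SuzT Subgroup
open Cfsg.Agent.CoThree (three_conj)
open Cfsg.Agent.CoFive (eq_one_of_pow)

local notation "F" => ZMod 2

theorem eq_of_add {u v : V} (h : u + v = 0) : u = v := by
  calc u = u + (v + v) := by rw [SuzT.add_self, add_zero]
    _ = v := by rw [← add_assoc, h, zero_add]

theorem IsOm.add' {f : V → V} (hf : IsOm f) (u v : V) : f (u + v) = f u + f v := by
  obtain ⟨g, -, rfl⟩ := hf
  exact app_add g u v

theorem IsOm.zero' {f : V → V} (hf : IsOm f) : f 0 = 0 :=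
  left_eq_add.1 (show f 0 = f 0 + f 0 by rw [← IsOm.add' hf, add_zero])

theorem IsOm.inj' {f : V → V} (hf : IsOm f) : Function.Injective f := by
  obtain ⟨g, -, rfl⟩ := hf
  exact fun u v h => by simpa [← app_mul, app_one] using congrArg (app g⁻¹) h

theorem IsOm.sm' {f : V → V} (hf : IsOm f) (c : F) (v : V) : f (sm c v) = sm c (f v) := by
  unfold sm
  split_ifs
  exacts [IsOm.zero' hf, rfl]

theorem card_perp : Nat.card {v : V // Perp v} = 16 := by
  rw [Nat.card_eq_fintype_card]; decide +kernel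

theorem plane_span : ∀ v : V, (∀ w, Perp w → bil v w = 0) → v = 0 ∨ v = a0 ∨ v = v0 ∨ v = a0 + v0 := by
  decide +kernel

theorem rot_plane : rot a0 v0 (a0 + v0) = a0 ∧ rot a0 v0 (rot a0 v0 v0) = a0 ∧ a0 ≠ 0 ∧ v0 ≠ a0 ∧
    ∀ m n : Fin 3, (rot a0 v0)^[m] a0 = (rot a0 v0)^[n] a0 → m = n := by decide +kernel

theorem isOm_rot0 : IsOm (rot a0 v0) := isOm_rot plane_facts.1 plane_facts.2.1

theorem rot0_three (v : V) : rot a0 v0 (rot a0 v0 (rot a0 v0 v)) = v :=
  rot_three plane_facts.1 plane_facts.2.1 plane_facts.2.2.1 v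

theorem rot0_iter (n : ℕ) {v : V} (h : Perp v) : (rot a0 v0)^[n] v = v :=
  Function.iterate_fixed ((rot_fix v).2 h) n

theorem em_perp (p : Idx) {v : V} (h : Perp v) : Perp (em p v) := by
  rw [← rot_fix, em_comm, (rot_fix v).2 h]

/-- An isometry of order three with at most four vectors moved modulo fixed ones is conjugate to the
rotation of the first plane. -/
theorem conj_rot {f : V → V} (hf : IsOm f) (h3 : ∀ v, f (f (f v)) = v) (hne : ∃ v, f v ≠ v)
    (hfix : 16 ≤ Nat.card {v : V // f v = v}) :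
    ∃ k, IsOm k ∧ ∀ v, k (f v) = rot a0 v0 (k v) := by
  classical
  have hadd := IsOm.add' hf
  have f0' := IsOm.zero' hf
  let φ : V →+ V := AddMonoidHom.mk' (fun v => f v + v) fun u w => by rw [hadd]; abel
  let D : Finset V := Finset.univ.image fun v => f v + v
  have hmemD : ∀ {d}, d ∈ D ↔ ∃ v, f v + v = d := fun {d} => by simp [D]
  have hD4 : D.card ≤ 4 := by
    have h := φ.ker.card_mul_index
    rw [AddSubgroup.index_ker, show Nat.card V = 64 by rw [Nat.card_eq_fintype_card]; decide +kernel,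
      show Nat.card φ.ker = Nat.card {v : V // f v = v} from Nat.card_congr (Equiv.subtypeEquivRight fun v =>
        ⟨fun e => eq_of_add e, fun e => by show f v + v = 0; rw [e, SuzT.add_self]⟩),
      show Nat.card φ.range = D.card by
        rw [Nat.card_eq_fintype_card]
        exact Fintype.card_of_subtype D fun d => by rw [AddMonoidHom.mem_range]; exact hmemD] at h
    by_contra hlt
    have := Nat.mul_le_mul hfix (show 5 ≤ D.card by omega)
    omega
  obtain ⟨v, hv⟩ := hne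
  set d := f v + v with hd
  have hd0 : d ≠ 0 := fun e => hv (eq_of_add e)
  have hsum : ∀ u, f (f (f u + u)) + f (f u + u) + (f u + u) = 0 := fun u => by
    rw [hadd, hadd, h3]
    rw [show u + f (f u) + (f (f u) + f u) + (f u + u) = (u + u) + (f (f u) + f (f u)) + (f u + f u) by abel,
      SuzT.add_self, SuzT.add_self, SuzT.add_self]
    simp [SuzT.add_self]
  have hnf : f d ≠ d := fun e => hd0 (by
    have := hsum v
    rwa [← hd, e, e, SuzT.add_self, zero_add] at this)
  have hff : f (f d) = f d + d := by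
    have := hsum v
    rw [← hd, add_assoc] at this
    exact eq_of_add this
  have hne2 : f d ≠ 0 := fun e => hd0 (IsOm.inj' hf (e.trans f0'.symm))
  have hne3 : f d + d ≠ 0 := fun e => hnf (eq_of_add e)
  have hDsub : ({0, d, f d, f d + d} : Finset V) ⊆ D := by
    intro u hu
    simp only [Finset.mem_insert, Finset.mem_singleton] at hu
    refine hmemD.2 ?_
    rcases hu with rfl | rfl | rfl | rfl
    · exact ⟨0, by rw [f0', add_zero]⟩
    · exact ⟨v, rfl⟩
    · exact ⟨f v, by rw [hd, hadd]⟩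
    · exact ⟨d, rfl⟩
  have h4 : ({0, d, f d, f d + d} : Finset V).card = 4 := by
    rw [Finset.card_insert_of_notMem, Finset.card_insert_of_notMem, Finset.card_pair]
    · exact fun e => hd0 (left_eq_add.1 e)
    · simp only [Finset.mem_insert, Finset.mem_singleton, not_or]
      exact ⟨fun e => hnf e.symm, fun e => hne2 (right_eq_add.1 e)⟩
    · simp only [Finset.mem_insert, Finset.mem_singleton, not_or]
      exact ⟨hd0.symm, hne2.symm, hne3.symm⟩
  have hDeq : D = {0, d, f d, f d + d} := (Finset.eq_of_subset_of_card_le hDsub (by omega)).symm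
  have himg : ∀ u, f u + u = 0 ∨ f u + u = d ∨ f u + u = f d ∨ f u + u = f d + d := fun u => by
    have := hmemD.2 ⟨u, rfl⟩
    rw [hDeq] at this
    simpa using this
  have hconv : ∀ w, bil d w = 0 → bil (f d) w = 0 → f w = w := by
    intro w h1 h2
    refine eq_of_add (by_contra fun hne0 => ?_)
    obtain ⟨u, hu⟩ := bil_nondeg _ hne0
    obtain ⟨u', rfl⟩ : ∃ u', f u' = u := ⟨f (f u), h3 u⟩
    have hb : bil (f u' + u') w = 0 := by
      rcases himg u' with e | e | e | e <;> rw [e]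
      exacts [(bil_zero w).2, h1, h2, by rw [bil_add_left, h1, h2, add_zero]]
    refine one_ne_zero (hu.symm.trans ?_)
    rw [bil_add_left, bil_comm w, IsOm.bil_eq' hf, bil_comm w u', add_comm, ← bil_add_left, hb]
  have hc : q d = bil d (f d) := by
    have h := q_add (f d) d
    rw [← hff, IsOm.q_eq' hf, IsOm.q_eq' hf] at h
    rw [bil_comm]
    rcases F_cases (q d) with e | e <;> rw [e] at h ⊢ <;>
      rcases F_cases (bil (f d) d) with e' | e' <;> rw [e'] at h ⊢ <;> exact absurd h (by decide)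
  have hq1 : q d = 1 := by
    rcases F_cases (q d) with e | e
    · exact absurd (hconv d (bil_self d) (by rw [bil_comm, ← hc, e])) hnf
    · exact e
  have hb1 : bil d (f d) = 1 := by rw [← hc, hq1]
  obtain ⟨k, hk, k1, k2⟩ := pair_to hq1 (by rw [IsOm.q_eq' hf, hq1]) hb1
  refine ⟨k, hk, fun u => ?_⟩
  obtain ⟨s1, s2, -⟩ := rot_facts
  have hr := IsOm.add' isOm_rot0
  have hka := IsOm.add' hk
  set w0 := u + sm (bil u (f d)) d + sm (bil u d) (f d) with hw0
  have hw1 : bil d w0 = 0 ∧ bil (f d) w0 = 0 := by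
    have hb : ∀ (c : F) (a b : V), bil a (sm c b) = c * bil a b := fun c a b => by
      unfold sm
      rcases F_cases c with rfl | rfl <;> simp [bil_zero]
    constructor <;> rw [hw0, bil_add_right, bil_add_right, hb, hb, bil_self]
    · rw [bil_comm d u, hb1, mul_zero, add_zero, mul_one]
      exact CharTwo.add_self_eq_zero _
    · rw [bil_comm (f d) u, bil_comm (f d) d, hb1, mul_zero, add_zero, mul_one]
      exact CharTwo.add_self_eq_zero _
  have hu : u = w0 + sm (bil u (f d)) d + sm (bil u d) (f d) := by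
    rw [hw0]
    rw [show u + sm (bil u (f d)) d + sm (bil u d) (f d) + sm (bil u (f d)) d + sm (bil u d) (f d) =
      u + (sm (bil u (f d)) d + sm (bil u (f d)) d) + (sm (bil u d) (f d) + sm (bil u d) (f d)) by abel,
      SuzT.add_self, SuzT.add_self, add_zero, add_zero]
  have hp : Perp (k w0) := ⟨by rw [← k1, IsOm.bil_eq' hk, bil_comm]; exact hw1.1,
    by rw [← k2, IsOm.bil_eq' hk, bil_comm]; exact hw1.2⟩
  rw [hu]
  simp only [hadd, hka, hr, IsOm.sm' hf, IsOm.sm' hk, IsOm.sm' isOm_rot0, hff, k1, k2,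
    hconv w0 hw1.1 hw1.2, (rot_fix _).2 hp, s1, s2]
  rw [add_comm v0 a0]

variable {G : Type*} [Group G] [Finite G] {z : G} {Q : Subgroup G} {π : G → V} {ρ : G → V → V}

theorem zpi (S : Su z Q π ρ) {h : G} (hh : h * z = z * h) : h * z * h⁻¹ = z :=
  mul_inv_eq_iff_eq_mul.2 hh

theorem cmul (S : Su z Q π ρ) {a b : G} (ha : a * z = z * a) (hb : b * z = z * b) :
    a * b * z = z * (a * b) := ((show Commute a z from ha).mul_left hb).eq

theorem cinv (S : Su z Q π ρ) {a : G} (ha : a * z = z * a) : a⁻¹ * z = z * a⁻¹ :=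
  ((show Commute a z from ha).inv_left).eq

theorem rho_pow (S : Su z Q π ρ) {b : G} (hb : b * z = z * b) (n : ℕ) (v : V) :
    ρ (b ^ n) v = (ρ b)^[n] v := by
  induction n generalizing v with
  | zero => rw [pow_zero, S.rho_one]; rfl
  | succ n ih =>
    rw [pow_succ, S.rho_mul ((Commute.pow_left hb n).eq) hb, ih, Function.iterate_succ_apply]

theorem four_pow (S : Su z Q π ρ) {x : G} (hx : x ∈ Q) : x ^ 4 = 1 := by
  have h : x * x = 1 ∨ x * x = z := by
    rw [S.sq x hx]
    rcases F_cases (q (π x)) with e | e <;> rw [e]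
    exacts [Or.inl (zb_zero _), Or.inr (zb_one _)]
  rw [show (4 : ℕ) = 2 * 2 from rfl, pow_mul, pow_two x]
  rcases h with e | e <;> rw [e, pow_two]
  exacts [one_mul 1, S.loc.sq]

theorem coprime_three (S : Su z Q π ρ) {R : Subgroup G} (h : R ≤ Q) : (Nat.card R).Coprime 3 :=
  Nat.Coprime.coprime_dvd_left (S.card ▸ Subgroup.card_dvd_of_le h) (by norm_num)

/-- An element of odd order fixing a point of the quotient centralises its lifts. -/
theorem fix_iff_comm (S : Su z Q π ρ) {b : G} (hb : b * z = z * b) (hodd : Odd (orderOf b)) {x : G}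
    (hx : x ∈ Q) : b * x = x * b ↔ ρ b (π x) = π x := by
  refine ⟨fun h => by rw [← S.conj b hb x hx, mul_inv_eq_iff_eq_mul.2 h], fun h => ?_⟩
  rcases S.eq_of_pi (S.conj_mem hb hx) hx (by rw [S.conj b hb x hx, h]) with e | e
  · exact mul_inv_eq_iff_eq_mul.1 e
  · exfalso
    have hrec : ∀ n : ℕ, b ^ n * x * (b ^ n)⁻¹ = x * z ^ n := by
      intro n
      induction n with
      | zero => simp
      | succ n ih =>
        calc b ^ (n + 1) * x * (b ^ (n + 1))⁻¹ = b ^ n * (b * x * b⁻¹) * (b ^ n)⁻¹ := by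
              rw [pow_succ]; group
          _ = b ^ n * x * (b ^ n)⁻¹ * (b ^ n * z * (b ^ n)⁻¹) := by rw [e]; group
          _ = x * z ^ n * z := by rw [ih, zpi S ((Commute.pow_left hb n).eq)]
          _ = x * z ^ (n + 1) := by rw [pow_succ, mul_assoc]
    have h5 := hrec (orderOf b)
    rw [pow_orderOf_eq_one, inv_one, mul_one, one_mul, left_eq_mul] at h5
    obtain ⟨k, hk⟩ := hodd
    rw [hk, pow_succ, pow_mul, pow_two, S.loc.sq, one_pow, one_mul] at h5
    exact S.loc.ne_one h5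

/-- Each vector has two lifts. -/
theorem card_lift (S : Su z Q π ρ) (p : V → Prop) :
    Nat.card {x : G // x ∈ Q ∧ p (π x)} = 2 * Nat.card {v : V // p v} := by
  classical
  choose l hl hlp using S.pi_surj
  have hmem : ∀ (v : V) (c : F), l v * zb z c ∈ Q ∧ π (l v * zb z c) = v := fun v c => by
    rcases F_cases c with e | e <;> rw [e]
    · rw [zb_zero, mul_one]; exact ⟨hl v, hlp v⟩
    · rw [zb_one]
      exact ⟨mul_mem (hl v) S.loc.mem, by rw [S.pi_mul _ (hl v) _ S.loc.mem, hlp, S.pi_z, add_zero]⟩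
  let f : F × {v : V // p v} → {x : G // x ∈ Q ∧ p (π x)} := fun w =>
    ⟨l w.2 * zb z w.1, (hmem _ _).1, by rw [(hmem _ _).2]; exact w.2.2⟩
  have hf : Function.Bijective f := by
    constructor
    · rintro ⟨c, v, hv⟩ ⟨d, w, hw⟩ e
      have e' : l v * zb z c = l w * zb z d := congrArg Subtype.val e
      have hvw : v = w := by rw [← (hmem v c).2, e', (hmem w d).2]
      subst hvw
      have h := mul_left_cancel e'
      rcases F_cases c with rfl | rfl <;> rcases F_cases d with rfl | rfl <;>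
        simp_all [zb_zero, zb_one, S.loc.ne_one, Ne.symm S.loc.ne_one]
    · rintro ⟨x, hx, hp⟩
      rcases S.eq_of_pi hx (hl (π x)) (hlp _).symm with e | e
      · exact ⟨⟨0, π x, hp⟩, Subtype.ext (show l (π x) * zb z 0 = x by rw [zb_zero, mul_one]; exact e.symm)⟩
      · exact ⟨⟨1, π x, hp⟩, Subtype.ext (show l (π x) * zb z 1 = x by rw [zb_one]; exact e.symm)⟩
  rw [← Nat.card_eq_of_bijective f hf, Nat.card_prod, Nat.card_zmod]

/-- A small non-abelian commutator with `Q` leaves 32 fixed points. -/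
theorem fix_of_small (S : Su z Q π ρ) {y : G}
    (hy : y * z = z * y) (hy3 : orderOf y = 3) {T : Subgroup G} (hT : T ≤ Q) (hT8 : Nat.card T = 8)
    (hTna : ∃ a ∈ T, ∃ b ∈ T, a * b ≠ b * a) (hTc : ∀ u ∈ Q, u * y * u⁻¹ * y⁻¹ ∈ T) :
    32 ≤ Nat.card ↥(Q ⊓ centralizer ({y} : Set G)) := by
  classical
  have hodd : Odd (orderOf y) := by rw [hy3]; decide
  have hzT : z ∈ T := by
    obtain ⟨a, ha, b, hb, hab⟩ := hTna
    have h := S.rule (hT ha) (hT hb)
    rcases F_cases (bil (π a) (π b)) with e | e <;> rw [e] at h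
    · exact absurd (by simpa [zb_zero] using h) hab
    · have h2 : z = (b * a)⁻¹ * (a * b) := by
        rw [eq_inv_mul_iff_mul_eq, h, zb_one]
      rw [h2]
      exact mul_mem (inv_mem (mul_mem hb ha)) (mul_mem ha hb)
  have hf := S.om y hy
  let φ : V →+ V := AddMonoidHom.mk' (fun v => ρ y v + v) fun u w => by rw [IsOm.add' hf]; abel
  have hlift : ∀ d : φ.range, ∃ t ∈ T, π t = (d : V) := by
    rintro ⟨-, v, rfl⟩
    obtain ⟨u, hu, rfl⟩ := S.pi_surj v
    refine ⟨_, hTc u hu, ?_⟩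
    have hu' := inv_mem hu
    rw [show u * y * u⁻¹ * y⁻¹ = u * (y * u⁻¹ * y⁻¹) by group, S.pi_mul _ hu _ (S.conj_mem hy hu'),
      S.conj y hy _ hu', S.pi_inv hu, add_comm]
    rfl
  choose l hlT hlπ using hlift
  let ψ : φ.range × F → T := fun p => ⟨l p.1 * zb z p.2, mul_mem (hlT _) (by
    rcases F_cases p.2 with e | e <;> rw [e]
    · rw [zb_zero]; exact one_mem _
    · rwa [zb_one])⟩
  have hψ : Function.Injective ψ := by
    rintro ⟨d, c⟩ ⟨d', c'⟩ e
    have e' : l d * zb z c = l d' * zb z c' := congrArg Subtype.val e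
    have hzb : ∀ c : F, zb z c ∈ Q ∧ π (zb z c) = 0 := fun c => by
      rcases F_cases c with rfl | rfl
      · rw [zb_zero]; exact ⟨one_mem _, S.pi_one⟩
      · rw [zb_one]; exact ⟨S.loc.mem, S.pi_z⟩
    have h := congrArg π e'
    rw [S.pi_mul _ (hT (hlT d)) _ (hzb c).1, S.pi_mul _ (hT (hlT d')) _ (hzb c').1, (hzb c).2, (hzb c').2,
      add_zero, add_zero, hlπ, hlπ] at h
    obtain rfl : d = d' := Subtype.ext h
    have h2 := mul_left_cancel e'
    rcases F_cases c with rfl | rfl <;> rcases F_cases c' with rfl | rfl <;>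
      simp only [zb_zero, zb_one] at h2
    · rfl
    · exact absurd h2.symm S.loc.ne_one
    · exact absurd h2 S.loc.ne_one
    · rfl
  have h4 : Nat.card φ.range * 2 ≤ 8 := by
    have h := Nat.card_le_card_of_injective ψ hψ
    rwa [Nat.card_prod, Nat.card_zmod, hT8] at h
  have h := φ.ker.card_mul_index
  rw [AddSubgroup.index_ker, show Nat.card V = 64 by rw [Nat.card_eq_fintype_card]; decide +kernel,
    show Nat.card φ.ker = Nat.card {v : V // ρ y v = v} from Nat.card_congr (Equiv.subtypeEquivRight fun v =>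
      ⟨fun e => eq_of_add e, fun e => by show ρ y v + v = 0; rw [e, SuzT.add_self]⟩)] at h
  have hl := card_lift S fun v => ρ y v = v
  rw [show Nat.card {u : G // u ∈ Q ∧ ρ y (π u) = π u} = Nat.card ↥(Q ⊓ centralizer ({y} : Set G)) from
    Nat.card_congr (Equiv.subtypeEquivRight fun u => by
      rw [mem_inf, mem_centralizer_singleton_iff]
      exact and_congr_right fun hu => by rw [← fix_iff_comm S hy hodd hu, eq_comm])] at hl
  by_contra hlt
  have h15 : Nat.card {v : V // ρ y v = v} ≤ 15 := by omega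
  have := Nat.mul_le_mul h15 (show Nat.card φ.range ≤ 4 by omega)
  omega

/-- The setting with the element of order three. -/
structure Fy (z : G) (Q : Subgroup G) (π : G → V) (ρ : G → V → V) (x : G) : Prop where
  S : Su z Q π ρ
  three : orderOf x = 3
  hz : x * z = z * x
  rho : ∀ v, ρ x v = rot a0 v0 v

/-- An element of order three with the action of the rotation. -/
theorem exists_fy (S : Su z Q π ρ) : ∃ x, Fy z Q π ρ x := by
  haveI : Fact (Nat.Prime 3) := ⟨Nat.prime_three⟩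
  obtain ⟨h, hh, hρ⟩ := S.lift _ isOm_rot0
  have h3 : h ^ 3 ∈ Q := (S.ker _ ((Commute.pow_left hh 3).eq)).1 fun v => by
    rw [rho_pow S hh, hρ]
    exact rot0_three v
  have hx : ∀ v, ρ (h ^ 4) v = rot a0 v0 v := fun v => by
    rw [rho_pow S hh, hρ]
    exact rot0_three _
  refine ⟨h ^ 4, S, orderOf_eq_prime ?_ fun e => ?_, (Commute.pow_left hh 4).eq, hx⟩
  · rw [← pow_mul, mul_comm, pow_mul, four_pow S h3]
  · have h1 := hx a0
    rw [e, S.rho_one, rot_facts.1] at h1
    exact rot_plane.2.2.2.1 h1.symm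

namespace Fy

variable {x : G} (Z : Fy z Q π ρ x)
include Z

theorem odd : Odd (orderOf x) := by rw [Z.three]; decide

theorem pow_three : x ^ 3 = 1 := by rw [← Z.three, pow_orderOf_eq_one]

theorem x_z (n : ℕ) : x ^ n * z = z * x ^ n := (Commute.pow_left Z.hz n).eq

theorem rho_x_pow (n : ℕ) (v : V) : ρ (x ^ n) v = (rot a0 v0)^[n] v := by
  rw [rho_pow Z.S Z.hz, funext Z.rho]

theorem mem_fix {u : G} (hu : u ∈ Q) : x * u = u * x ↔ Perp (π u) := by
  rw [fix_iff_comm Z.S Z.hz Z.odd hu, Z.rho, rot_fix]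

/-- The fixed points of `x` on `Q`. -/
abbrev U (_Z : Fy z Q π ρ x) : Subgroup G := Q ⊓ centralizer ({x} : Set G)

theorem mem_U {u : G} : u ∈ Z.U ↔ u ∈ Q ∧ Perp (π u) := by
  rw [mem_inf, mem_centralizer_singleton_iff]
  exact and_congr_right fun hu => by rw [← Z.mem_fix hu, eq_comm]

theorem z_mem_U : z ∈ Z.U := Z.mem_U.2 ⟨Z.S.loc.mem, by rw [Z.S.pi_z]; decide +kernel⟩

theorem card_U : Nat.card Z.U = 32 := by
  have h := card_lift Z.S Perp
  rw [card_perp] at h
  rw [← show Nat.card {u : G // u ∈ Q ∧ Perp (π u)} = Nat.card Z.U from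
    Nat.card_congr (Equiv.subtypeEquivRight fun u => Z.mem_U.symm), h]

/-- The centraliser of `x` in the centraliser of `z`. -/
abbrev cen (_Z : Fy z Q π ρ x) : Subgroup G := centralizer ({z} : Set G) ⊓ centralizer ({x} : Set G)

theorem cen_z {c : G} (hc : c ∈ Z.cen) : c * z = z * c := mem_centralizer_singleton_iff.1 hc.1

theorem cen_x {c : G} (hc : c ∈ Z.cen) : c * x = x * c := mem_centralizer_singleton_iff.1 hc.2

theorem mem_cen {c : G} (h1 : c * z = z * c) (h2 : c * x = x * c) : c ∈ Z.cen :=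
  ⟨mem_centralizer_singleton_iff.2 h1, mem_centralizer_singleton_iff.2 h2⟩

theorem U_le : Z.U ≤ Z.cen := fun _ hu =>
  Z.mem_cen (Z.S.Qz hu.1) (mem_centralizer_singleton_iff.1 hu.2)

theorem x_mem : x ∈ Z.cen := Z.mem_cen Z.hz rfl

theorem pow_mem' (n : ℕ) : x ^ n ∈ Z.cen := pow_mem Z.x_mem n

theorem rho_rot {c : G} (hc : c ∈ Z.cen) (v : V) : ρ c (rot a0 v0 v) = rot a0 v0 (ρ c v) := by
  rw [← Z.rho, ← Z.rho, ← Z.S.rho_mul (Z.cen_z hc) Z.hz, Z.cen_x hc, Z.S.rho_mul Z.hz (Z.cen_z hc)]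

theorem perp_rho {c : G} (hc : c ∈ Z.cen) {v : V} (hv : Perp v) : Perp (ρ c v) := by
  rw [← rot_fix, ← Z.rho_rot hc, (rot_fix v).2 hv]

theorem U_normal {c u : G} (hc : c ∈ Z.cen) (hu : u ∈ Z.U) : c * u * c⁻¹ ∈ Z.U :=
  Z.mem_U.2 ⟨Z.S.conj_mem (Z.cen_z hc) hu.1, by
    rw [Z.S.conj c (Z.cen_z hc) u hu.1]; exact Z.perp_rho hc (Z.mem_U.1 hu).2⟩

theorem mem_U_of_rho {c : G} (hc : c ∈ Z.cen) (h : ∀ v, ρ c v = v) : c ∈ Z.U := by
  have hQ := (Z.S.ker c (Z.cen_z hc)).1 h
  exact ⟨hQ, hc.2⟩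

/-- The index of an element of the centraliser, after a power of `x`. -/
theorem exists_idx {c : G} (hc : c ∈ Z.cen) :
    ∃ (m : Fin 3) (p : Idx), ∀ v, ρ c v = (rot a0 v0)^[m] (em p v) := by
  obtain ⟨s1, s2, -⟩ := rot_facts
  obtain ⟨r1, r2, r3, -⟩ := rot_plane
  have hom := Z.S.om c (Z.cen_z hc)
  have hv : ρ c v0 = rot a0 v0 (ρ c a0) := by rw [← Z.rho_rot hc, s1]
  have hci : c⁻¹ ∈ Z.cen := inv_mem hc
  have hall : ρ c a0 = 0 ∨ ρ c a0 = a0 ∨ ρ c a0 = v0 ∨ ρ c a0 = a0 + v0 := plane_span _ fun w hw => by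
    rw [← Z.S.rho_one w, ← mul_inv_cancel c, Z.S.rho_mul (Z.cen_z hc) (Z.cen_z hci),
      Z.S.rho_bil (Z.cen_z hc), bil_comm]
    exact (Z.perp_rho hci hw).1
  obtain ⟨m, hm1, hm2⟩ : ∃ m : Fin 3, (rot a0 v0)^[m] a0 = ρ c a0 ∧ (rot a0 v0)^[m] v0 = ρ c v0 := by
    rcases hall with e | e | e | e
    · exact absurd (Z.S.rho_inj (Z.cen_z hc) (e.trans (Z.S.rho_zero (Z.cen_z hc)).symm)) r3
    · exact ⟨0, e.symm, by rw [hv, e, s1]; rfl⟩
    · refine ⟨1, ?_, ?_⟩
      · rw [e]; exact s1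
      · rw [hv, e]; rfl
    · refine ⟨2, ?_, ?_⟩
      · rw [e]
        show rot a0 v0 (rot a0 v0 a0) = _
        rw [s1, s2]
      · rw [hv, e, r1]
        exact r2
  set j : ℕ := 3 - (m : ℕ) with hj
  have hback : ∀ v, (rot a0 v0)^[j] ((rot a0 v0)^[m] v) = v := fun v => by
    rw [← Function.iterate_add_apply, show j + (m : ℕ) = 3 by omega]
    exact rot0_three v
  obtain ⟨p, hp⟩ := exists_em (f := fun v => ρ (x ^ j * c) v) (Z.S.om _ (cmul Z.S (Z.x_z j) (Z.cen_z hc)))
    (by simp only [Z.S.rho_mul (Z.x_z j) (Z.cen_z hc), Z.rho_x_pow, ← hm1, hback])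
    (by simp only [Z.S.rho_mul (Z.x_z j) (Z.cen_z hc), Z.rho_x_pow, ← hm2, hback])
  refine ⟨m, p, fun v => ?_⟩
  rw [← hp v, Z.S.rho_mul (Z.x_z j) (Z.cen_z hc), Z.rho_x_pow, ← Function.iterate_add_apply,
    show (m : ℕ) + j = 3 by omega]
  exact (rot0_three _).symm

/-- On the fixed space an element of the centraliser acts by its index. -/
theorem exists_perp_idx {c : G} (hc : c ∈ Z.cen) : ∃ p : Idx, ∀ v, Perp v → ρ c v = em p v := by
  obtain ⟨m, p, hp⟩ := Z.exists_idx hc
  exact ⟨p, fun v hv => by rw [hp v, rot0_iter m (em_perp p hv)]⟩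

/-- Isometries commuting with the rotation lift to the centraliser of `x`. -/
theorem lift_comm {f : V → V} (hf : IsOm f) (hcomm : ∀ v, f (rot a0 v0 v) = rot a0 v0 (f v)) :
    ∃ c ∈ Z.cen, ∀ v, ρ c v = f v := by
  have S := Z.S
  obtain ⟨h, hh, hρ⟩ := S.lift f hf
  have hxh := cmul S hh Z.hz
  have hyz := cmul S hxh (cinv S hh)
  have hdz := cmul S hyz (cinv S Z.hz)
  have hd : h * x * h⁻¹ * x⁻¹ ∈ Q := (S.ker _ hdz).1 fun v => by
    rw [S.rho_mul hyz (cinv S Z.hz), S.rho_mul hxh (cinv S hh), S.rho_mul hh Z.hz, Z.rho, hρ,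
      hcomm, ← hρ, ← S.rho_mul hh (cinv S hh), mul_inv_cancel, S.rho_one, ← Z.rho,
      ← S.rho_mul Z.hz (cinv S Z.hz), mul_inv_cancel, S.rho_one]
  obtain ⟨r, hr, e⟩ := three_conj (R := Q) (b := x) (coprime_three S le_rfl) Z.three
    (fun r hr => S.conj_mem Z.hz hr) hd (by rw [show h * x * h⁻¹ = MulAut.conj h x by rfl,
      MulEquiv.orderOf_eq, Z.three])
  have hrx : r * h * x = x * (r * h) := mul_inv_eq_iff_eq_mul.1 (by
    calc r * h * x * (r * h)⁻¹ = r * (h * x * h⁻¹) * r⁻¹ := by group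
      _ = x := e)
  refine ⟨r * h, Z.mem_cen (cmul S (S.Qz hr) hh) hrx, fun v => ?_⟩
  rw [S.rho_mul (S.Qz hr) hh, (S.ker r (S.Qz hr)).2 hr, hρ]

theorem lift_em (p : Idx) : ∃ c ∈ Z.cen, ∀ v, ρ c v = em p v :=
  Z.lift_comm (isOm_em p) fun v => (em_comm p v).symm

theorem card_cen : Nat.card Z.cen = 3456 := by
  classical
  choose L hL hLρ using Z.lift_em
  let T : Z.U × (Fin 3 × Idx) → Z.cen := fun w =>
    ⟨(w.1 : G) * x ^ (w.2.1 : ℕ) * L w.2.2, mul_mem (mul_mem (Z.U_le w.1.2) (Z.pow_mem' _)) (hL _)⟩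
  have hρT : ∀ w v, ρ (T w : G) v = (rot a0 v0)^[(w.2.1 : ℕ)] (em w.2.2 v) := fun w v => by
    show ρ ((w.1 : G) * x ^ (w.2.1 : ℕ) * L w.2.2) v = _
    rw [Z.S.rho_mul (cmul Z.S (Z.S.Qz w.1.2.1) (Z.x_z _)) (Z.cen_z (hL _)),
      Z.S.rho_mul (Z.S.Qz w.1.2.1) (Z.x_z _), (Z.S.ker _ (Z.S.Qz w.1.2.1)).2 w.1.2.1, Z.rho_x_pow, hLρ]
  have hT : Function.Bijective T := by
    constructor
    · rintro ⟨u, m, p⟩ ⟨u', m', p'⟩ e
      have hr : ∀ v, (rot a0 v0)^[(m : ℕ)] (em p v) = (rot a0 v0)^[(m' : ℕ)] (em p' v) := fun v => by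
        have h1 := hρT ⟨u, m, p⟩ v
        rw [e, hρT ⟨u', m', p'⟩ v] at h1
        exact h1.symm
      obtain rfl : m = m' := rot_plane.2.2.2.2 m m' (by
        have := hr a0
        rwa [(em_plane p).1, (em_plane p').1] at this)
      have hi : ∀ n : ℕ, Function.Injective (rot a0 v0)^[n] := fun n => (IsOm.inj' isOm_rot0).iterate n
      obtain rfl : p = p' := em_inj p p' (hi _ (hr a1)) (hi _ (hr b1)) (hi _ (hr a2)) (hi _ (hr b2))
      have e' : (u : G) * x ^ (m : ℕ) * L p = (u' : G) * x ^ (m : ℕ) * L p := congrArg Subtype.val e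
      rw [Subtype.ext (mul_right_cancel (mul_right_cancel e'))]
    · rintro ⟨c, hc⟩
      obtain ⟨m, p, hp⟩ := Z.exists_idx hc
      have hmem : x ^ (m : ℕ) * L p ∈ Z.cen := mul_mem (Z.pow_mem' _) (hL p)
      have hu : c * (x ^ (m : ℕ) * L p)⁻¹ ∈ Z.U := Z.mem_U_of_rho (mul_mem hc (inv_mem hmem)) fun v => by
        have hm := Z.cen_z hmem
        obtain ⟨w, rfl⟩ : ∃ w, ρ (x ^ (m : ℕ) * L p) w = v := ⟨ρ (x ^ (m : ℕ) * L p)⁻¹ v, by
          rw [← Z.S.rho_mul hm (Z.cen_z (inv_mem hmem)), mul_inv_cancel, Z.S.rho_one]⟩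
        rw [← Z.S.rho_mul (Z.cen_z (mul_mem hc (inv_mem hmem))) hm, inv_mul_cancel_right, hp,
          Z.S.rho_mul (Z.x_z _) (Z.cen_z (hL p)), Z.rho_x_pow, hLρ]
      exact ⟨⟨⟨_, hu⟩, m, p⟩, Subtype.ext (by
        show c * (x ^ (m : ℕ) * L p)⁻¹ * x ^ (m : ℕ) * L p = c
        group)⟩
  rw [← Nat.card_eq_of_bijective T hT, Nat.card_prod, Z.card_U]
  simp [Nat.card_eq_fintype_card]

/-- An element of order three of the centraliser with 32 fixed points on `Q` is conjugate to `x`. -/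
theorem conj_of_fix {y : G} (hy : y * z = z * y) (hy3 : orderOf y = 3)
    (hfix : 32 ≤ Nat.card ↥(Q ⊓ centralizer ({y} : Set G))) :
    ∃ h, h * z = z * h ∧ h * y * h⁻¹ = x := by
  have S := Z.S
  have hodd : Odd (orderOf y) := by rw [hy3]; decide
  have hy' : y ^ 3 = 1 := by rw [← hy3, pow_orderOf_eq_one]
  have h16 : 16 ≤ Nat.card {v : V // ρ y v = v} := by
    have h := card_lift S fun v => ρ y v = v
    rw [show Nat.card {u : G // u ∈ Q ∧ ρ y (π u) = π u} = Nat.card ↥(Q ⊓ centralizer ({y} : Set G)) from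
      Nat.card_congr (Equiv.subtypeEquivRight fun u => by
        rw [mem_inf, mem_centralizer_singleton_iff]
        exact and_congr_right fun hu => by rw [← fix_iff_comm S hy hodd hu, eq_comm])] at h
    omega
  have hne : ∃ v, ρ y v ≠ v := by
    by_contra hc
    push Not at hc
    have hyQ : y ∈ Q := (S.ker y hy).1 hc
    have := eq_one_of_pow (four_pow S hyQ) hy' (by norm_num)
    rw [this, orderOf_one] at hy3
    omega
  obtain ⟨k, hk, hks⟩ := conj_rot (S.om y hy) (fun v => by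
    rw [← S.rho_mul hy hy, ← S.rho_mul (cmul S hy hy) hy,
      show y * y * y = 1 by rw [← hy', pow_succ, pow_two], S.rho_one]) hne h16
  obtain ⟨h, hh, hρ⟩ := S.lift k hk
  have hz1 := cmul S (cmul S hh hy) (cinv S hh)
  have hd : h * y * h⁻¹ * x⁻¹ ∈ Q := (S.ker _ (cmul S hz1 (cinv S Z.hz))).1 fun v => by
    rw [S.rho_mul hz1 (cinv S Z.hz), S.rho_mul (cmul S hh hy) (cinv S hh), S.rho_mul hh hy,
      hρ, hks, ← hρ, ← S.rho_mul hh (cinv S hh), mul_inv_cancel, S.rho_one, ← Z.rho,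
      ← S.rho_mul Z.hz (cinv S Z.hz), mul_inv_cancel, S.rho_one]
  obtain ⟨r, hr, e⟩ := three_conj (R := Q) (b := x) (coprime_three S le_rfl) Z.three
    (fun r hr => S.conj_mem Z.hz hr) hd (by
      rw [show h * y * h⁻¹ = MulAut.conj h y by rfl, MulEquiv.orderOf_eq, hy3])
  refine ⟨r * h, cmul S (S.Qz hr) hh, ?_⟩
  calc r * h * y * (r * h)⁻¹ = r * (h * y * h⁻¹) * r⁻¹ := by group
    _ = x := e

theorem card_fix : 32 ≤ Nat.card ↥(Q ⊓ centralizer ({x} : Set G)) := Z.card_U.ge

/-- An element of the centraliser of `z` inverting `x`. -/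
theorem exists_invert : ∃ h, h * z = z * h ∧ h * x * h⁻¹ = x⁻¹ := by
  have hxi := cinv Z.S Z.hz
  obtain ⟨h, hh, he⟩ := Z.conj_of_fix hxi (by rw [orderOf_inv, Z.three]) (by
    rw [show centralizer ({x⁻¹} : Set G) = centralizer ({x} : Set G) by
      ext a
      rw [mem_centralizer_singleton_iff, mem_centralizer_singleton_iff]
      exact ⟨fun h => by simpa using (show Commute a x⁻¹ from h).inv_right.eq,
        fun h => ((show Commute a x from h).inv_right).eq⟩]
    exact Z.card_fix)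
  refine ⟨h, hh, ?_⟩
  conv_rhs => rw [← he]
  group

end Fy

end Cfsg.Agent.SuzY
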