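import Cfsg.Agent.Lib.SuzT.Classes

/-!
Three orthogonal anisotropic planes of the six-dimensional elliptic space and the isometries fixing the
decomposition.
-/

set_option autoImplicit false
set_option linter.style.haveILetI false
set_option maxRecDepth 20000
set_option synthInstance.maxSize 4000
set_option synthInstance.maxHeartbeats 400000

namespace Cfsg.Agent.SuzY

open Cfsg.Agent.SuzT

local notation "F" => ZMod 2

/-- First vector of the second plane. -/
def a1 : V := e0 + f0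
/-- Second vector of the second plane. -/
def b1 : V := e0 + e1 + f1
/-- First vector of the third plane. -/
def a2 : V := e1 + f1
/-- Second vector of the third plane. -/
def b2 : V := e0 + f0 + e1

/-- The rotation of the plane of `a` and `b`. -/
def rot (a b x : V) : V := tr a (tr b x)

/-- The swap of the last two planes. -/
def sw (x : V) : V :=
  tr v0 (tr (f0 + f1 + v0) (tr (e0 + e1 + v0) (tr (e0 + f0 + (e1 + f1) + v0) x)))

/-- The simultaneous inversion of the last two planes. -/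
def inv2 (x : V) : V := tr a1 (tr a2 x)

/-- Orthogonal to the first plane. -/
def Perp (v : V) : Prop := bil v a0 = 0 ∧ bil v v0 = 0

/-- In the plane of `a` and `b`. -/
def InPl (a b v : V) : Prop := v = 0 ∨ v = a ∨ v = b ∨ v = a + b

instance (v : V) : Decidable (Perp v) := by unfold Perp; infer_instance
instance (a b v : V) : Decidable (InPl a b v) := by unfold InPl; infer_instance

/-- The component in the first plane. -/
def pl (v : V) : V := sm (bil v v0) a0 + sm (bil v a0) v0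
/-- The component in the second plane. -/
def p1 (v : V) : V := sm (bil v b1) a1 + sm (bil v a1) b1
/-- The component in the third plane. -/
def p2 (v : V) : V := sm (bil v b2) a2 + sm (bil v a2) b2

theorem decomp : ∀ v : V, pl v + p1 v + p2 v = v := by decide +kernel

theorem decomp_perp : ∀ v : V, Perp v → p1 v + p2 v = v ∧ InPl a1 b1 (p1 v) ∧ InPl a2 b2 (p2 v) := by
  decide +kernel

theorem plane_facts : q a0 = 1 ∧ q v0 = 1 ∧ bil a0 v0 = 1 ∧ q a1 = 1 ∧ q b1 = 1 ∧ bil a1 b1 = 1 ∧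
    q a2 = 1 ∧ q b2 = 1 ∧ bil a2 b2 = 1 := by decide +kernel

theorem perp_facts : Perp e0 ∧ Perp f0 ∧ Perp a1 ∧ Perp b1 ∧ Perp a2 ∧ Perp b2 := by decide +kernel

theorem rot_facts : rot a0 v0 a0 = v0 ∧ rot a0 v0 v0 = a0 + v0 ∧
    rot a1 b1 a1 = b1 ∧ rot a1 b1 b1 = a1 + b1 ∧ rot a1 b1 a2 = a2 ∧ rot a1 b1 b2 = b2 ∧
    rot a2 b2 a2 = b2 ∧ rot a2 b2 b2 = a2 + b2 ∧ rot a2 b2 a1 = a1 ∧ rot a2 b2 b1 = b1 := by decide +kernel

theorem rot_fix : ∀ v : V, rot a0 v0 v = v ↔ Perp v := by decide +kernel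

theorem rot_fix1 : ∀ v : V, rot a1 b1 v = v ↔ (bil v a1 = 0 ∧ bil v b1 = 0) := by decide +kernel

theorem rot_fix2 : ∀ v : V, rot a2 b2 v = v ↔ (bil v a2 = 0 ∧ bil v b2 = 0) := by decide +kernel

theorem rot_three {a b : V} (ha : q a = 1) (hb : q b = 1) (hab : bil a b = 1) (x : V) :
    rot a b (rot a b (rot a b x)) = x := order_three a b ha hb hab x

theorem rot_comm : ∀ v : V, rot a0 v0 (rot a1 b1 v) = rot a1 b1 (rot a0 v0 v) ∧
    rot a0 v0 (rot a2 b2 v) = rot a2 b2 (rot a0 v0 v) ∧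
    rot a1 b1 (rot a2 b2 v) = rot a2 b2 (rot a1 b1 v) := by decide +kernel

theorem outer_comm : ∀ v : V, rot a0 v0 (sw v) = sw (rot a0 v0 v) ∧
    rot a0 v0 (inv2 v) = inv2 (rot a0 v0 v) ∧ sw (sw v) = v ∧ inv2 (inv2 v) = v := by decide +kernel

theorem outer_facts : sw a1 = a2 ∧ sw b1 = b2 ∧ sw a2 = a1 ∧ sw b2 = b1 := by decide +kernel

theorem inv2_rot : ∀ v : V, inv2 (rot a1 b1 (inv2 v)) = rot a1 b1 (rot a1 b1 v) ∧
    inv2 (rot a2 b2 (inv2 v)) = rot a2 b2 (rot a2 b2 v) := by decide +kernel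

theorem isOm_rot {a b : V} (ha : q a = 1) (hb : q b = 1) : IsOm (rot a b) := isOm_tr_tr ha hb

theorem isOm_sw : IsOm sw := by
  have h : q v0 = 1 ∧ q (f0 + f1 + v0) = 1 ∧ q (e0 + e1 + v0) = 1 ∧
      q (e0 + f0 + (e1 + f1) + v0) = 1 := by decide +kernel
  exact (isOm_tr_tr h.1 h.2.1).comp (isOm_tr_tr h.2.2.1 h.2.2.2)

theorem isOm_inv2 : IsOm inv2 := isOm_tr_tr plane_facts.2.2.2.1 plane_facts.2.2.2.2.2.2.1

/-- The indices of the isometries of the last two planes. -/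
abbrev Idx := (Fin 3 × Fin 3) × (Bool × Bool)

/-- The isometry with given index. -/
def em (p : Idx) (x : V) : V :=
  (rot a1 b1)^[p.1.1] ((rot a2 b2)^[p.1.2]
    (if p.2.1 then sw (if p.2.2 then inv2 x else x) else (if p.2.2 then inv2 x else x)))

theorem isOm_em (p : Idx) : IsOm (em p) := by
  obtain ⟨-, -, -, h1, h2, -, h3, h4, -⟩ := plane_facts
  have hit : ∀ {a b : V}, q a = 1 → q b = 1 → ∀ n, IsOm ((rot a b)^[n]) := fun {a b} ha hb n => by
    induction n with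
    | zero => exact isOm_id
    | succ n ih => exact (ih.comp (isOm_rot ha hb)).congr fun x => (Function.iterate_succ_apply _ n x).symm
  obtain ⟨⟨i, j⟩, w, t⟩ := p
  refine (((hit h1 h2 i).comp (hit h3 h4 j)).comp
    (f' := fun x => if w then sw (if t then inv2 x else x) else (if t then inv2 x else x)) ?_).congr fun _ => rfl
  cases w <;> cases t <;> simp only [Bool.false_eq_true, ↓reduceIte]
  exacts [isOm_id, isOm_inv2, isOm_sw, isOm_sw.comp isOm_inv2]

theorem em_plane : ∀ p : Idx, em p a0 = a0 ∧ em p v0 = v0 := by decide +kernel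

theorem em_inj : ∀ p r : Idx, em p a1 = em r a1 → em p b1 = em r b1 → em p a2 = em r a2 →
    em p b2 = em r b2 → p = r := by decide +kernel

theorem tr_a1_fix : tr a1 a0 = a0 ∧ tr a1 v0 = v0 := by decide +kernel

theorem not_isOm_tr1 : ¬ IsOm (tr a1) := fun h => by
  refine not_isOm_tr (((isOm_tr_tr plane_facts.1 plane_facts.2.2.2.1).comp h).congr fun x => ?_)
  show tr a0 (tr a1 (tr a1 x)) = _
  rw [tr_tr a1 x plane_facts.2.2.2.1]

theorem pl_eq : ∀ v : V, pl v = sm (bil v v0) a0 + sm (bil v a0) v0 := fun _ => rfl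

theorem comb3 : ∀ v : V, v = sm (bil v v0) a0 + sm (bil v a0) v0 + (sm (bil v b1) a1 + sm (bil v a1) b1) +
    (sm (bil v b2) a2 + sm (bil v a2) b2) := by decide +kernel

/-- Additive maps agreeing on the six vectors are equal. -/
theorem eq_of_basis {f g : V → V} (hf : ∀ u v, f (u + v) = f u + f v) (hg : ∀ u v, g (u + v) = g u + g v)
    (h0 : f a0 = g a0) (h0' : f v0 = g v0) (h1 : f a1 = g a1) (h1' : f b1 = g b1) (h2 : f a2 = g a2)
    (h2' : f b2 = g b2) (v : V) : f v = g v := by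
  have z : ∀ {k : V → V}, (∀ u v, k (u + v) = k u + k v) → k 0 = 0 := fun {k} hk =>
    left_eq_add.1 (show k 0 = k 0 + k 0 by rw [← hk, add_zero])
  have hs : ∀ {k : V → V}, (∀ u v, k (u + v) = k u + k v) → ∀ c u, k (sm c u) = sm c (k u) :=
    fun {k} hk c u => by unfold sm; split_ifs <;> simp [z hk]
  rw [comb3 v]
  simp only [hf, hg, hs hf, hs hg, h0, h0', h1, h1', h2, h2']

theorem em_add (p : Idx) (u v : V) : em p (u + v) = em p u + em p v :=
  (isOm_em p).elim fun k hk => by rw [← hk.2, app_add]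

theorem em_basis : ∀ p : Idx, rot a0 v0 (em p a1) = em p a1 ∧ rot a0 v0 (em p b1) = em p b1 ∧
    rot a0 v0 (em p a2) = em p a2 ∧ rot a0 v0 (em p b2) = em p b2 := by decide +kernel

theorem em_comm (p : Idx) (v : V) : rot a0 v0 (em p v) = em p (rot a0 v0 v) := by
  obtain ⟨h1, h2, h3, h4⟩ := em_basis p
  obtain ⟨-, -, q1, q2, q3, q4⟩ := perp_facts
  have hr : ∀ u w, rot a0 v0 (u + w) = rot a0 v0 u + rot a0 v0 w := fun u w => by
    simp only [rot, tr_add]
  refine eq_of_basis (f := fun v => rot a0 v0 (em p v)) (g := fun v => em p (rot a0 v0 v))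
    (fun u w => by rw [em_add, hr]) (fun u w => by rw [hr, em_add]) ?_ ?_ ?_ ?_ ?_ ?_ v
  · rw [(em_plane p).1, rot_facts.1, (em_plane p).2]
  · rw [(em_plane p).2, rot_facts.2.1, em_add, (em_plane p).1, (em_plane p).2]
  · rw [h1, (rot_fix a1).2 q1]
  · rw [h2, (rot_fix b1).2 q2]
  · rw [h3, (rot_fix a2).2 q3]
  · rw [h4, (rot_fix b2).2 q4]

theorem em_three_basis : ∀ p : Idx, em p (em p (em p a1)) = a1 → em p (em p (em p b1)) = b1 →
    em p (em p (em p a2)) = a2 → em p (em p (em p b2)) = b2 → p.2 = (false, false) := by decide +kernel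

theorem em_three (p : Idx) (h : ∀ v : V, em p (em p (em p v)) = v) : p.2 = (false, false) :=
  em_three_basis p (h _) (h _) (h _) (h _)

theorem em_twelve_basis : ∀ p : Idx, (em p)^[12] a1 = a1 ∧ (em p)^[12] b1 = b1 ∧
    (em p)^[12] a2 = a2 ∧ (em p)^[12] b2 = b2 := by decide +kernel

theorem em_twelve (p : Idx) (v : V) : (em p)^[12] v = v := by
  obtain ⟨h1, h2, h3, h4⟩ := em_twelve_basis p
  have hadd : ∀ (n : ℕ) u w, (em p)^[n] (u + w) = (em p)^[n] u + (em p)^[n] w := fun n => by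
    induction n with
    | zero => exact fun _ _ => rfl
    | succ n ih => intro u w; simp only [Function.iterate_succ_apply, em_add, ih]
  exact eq_of_basis (g := fun v => v) (hadd 12) (fun _ _ => rfl)
    (Function.iterate_fixed (em_plane p).1 12) (Function.iterate_fixed (em_plane p).2 12) h1 h2 h3 h4 v

/-- The six anisotropic vectors orthogonal to the first plane. -/
def ns : Fin 6 → V := ![a1, b1, a1 + b1, a2, b2, a2 + b2]

theorem ns_cases : ∀ v : V, Perp v → q v = 1 → ∃ i, v = ns i := by decide +kernel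

theorem basis_cases : ∀ i j : Fin 6, bil (ns i) (ns j) = 1 → ∀ k l : Fin 6, bil (ns i) (ns k) = 0 →
    bil (ns j) (ns k) = 0 → bil (ns i) (ns l) = 0 → bil (ns j) (ns l) = 0 → bil (ns k) (ns l) = 1 →
    ∃ p : Idx, (em p a1 = ns i ∧ em p b1 = ns j ∧ em p a2 = ns k ∧ em p b2 = ns l) ∨
      (em p (tr a1 a1) = ns i ∧ em p (tr a1 b1) = ns j ∧ em p (tr a1 a2) = ns k ∧
        em p (tr a1 b2) = ns l) := by decide +kernel

/-- An isometry in the image fixing the first plane has an index. -/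
theorem exists_em {f : V → V} (hf : IsOm f) (h0 : f a0 = a0) (h0' : f v0 = v0) :
    ∃ p, ∀ v, f v = em p v := by
  obtain ⟨g, hg, rfl⟩ := hf
  have hb : ∀ u v, bil (app g u) (app g v) = bil u v := fun u v => by
    have h7 := app_q g (u + v)
    rw [app_add, q_add, app_q, app_q, q_add] at h7
    exact add_left_cancel h7
  have hp : ∀ v, Perp v → Perp (app g v) := fun v hv => by
    unfold Perp at hv ⊢
    conv_lhs => rw [← h0]
    conv_rhs => rw [← h0']
    rw [hb, hb]; exact hv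
  obtain ⟨-, -, -, h1, h2, h3, h4, h5, h6⟩ := plane_facts
  obtain ⟨-, -, q1, q2, q3, q4⟩ := perp_facts
  have o : bil a1 a2 = 0 ∧ bil b1 a2 = 0 ∧ bil a1 b2 = 0 ∧ bil b1 b2 = 0 := by decide +kernel
  obtain ⟨i, ei⟩ := ns_cases _ (hp _ q1) (by rw [app_q, h1])
  obtain ⟨j, ej⟩ := ns_cases _ (hp _ q2) (by rw [app_q, h2])
  obtain ⟨k, ek⟩ := ns_cases _ (hp _ q3) (by rw [app_q, h4])
  obtain ⟨l, el⟩ := ns_cases _ (hp _ q4) (by rw [app_q, h5])
  obtain ⟨p, hp'⟩ := basis_cases i j (by rw [← ei, ← ej, hb, h3]) k l (by rw [← ei, ← ek, hb, o.1])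
    (by rw [← ej, ← ek, hb, o.2.1]) (by rw [← ei, ← el, hb, o.2.2.1])
    (by rw [← ej, ← el, hb, o.2.2.2]) (by rw [← ek, ← el, hb, h6])
  refine ⟨p, ?_⟩
  rw [← ei, ← ej, ← ek, ← el] at hp'
  rcases hp' with ⟨e1, e2, e3, e4⟩ | ⟨e1, e2, e3, e4⟩
  · exact eq_of_basis (app_add g) (em_add p)
      (h0.trans (em_plane p).1.symm) (h0'.trans (em_plane p).2.symm) e1.symm e2.symm e3.symm e4.symm
  · exfalso
    have e : ∀ v, app g v = em p (tr a1 v) := eq_of_basis (g := fun v => em p (tr a1 v)) (app_add g)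
      (fun u v => by rw [tr_add, em_add]) (by rw [tr_a1_fix.1, (em_plane p).1, h0])
      (by rw [tr_a1_fix.2, (em_plane p).2, h0']) e1.symm e2.symm e3.symm e4.symm
    obtain ⟨k, hk, ek⟩ := isOm_em p
    refine not_isOm_tr1 ⟨k⁻¹ * g, mul_mem (inv_mem hk) hg, funext fun v => ?_⟩
    rw [app_mul]
    show app k⁻¹ (app g v) = _
    rw [e, ← ek, ← app_mul, inv_mul_cancel, app_one]

theorem exists_sing_perp : ∀ a : V, q a = 1 → ∃ e, q e = 0 ∧ e ≠ 0 ∧ bil a e = 0 := by decide +kernel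

theorem to_w : ∀ x : V, q x = 1 → bil x e0 = 0 → x = inW (wp x) ∨
    ∃ w : W, sg e0 (inW w) x = inW (wp x) := by decide +kernel

theorem apair_w : ∀ x : V, bil x e0 = 0 → ∀ y : W, q x = 1 → q (inW y) = 1 → bil x (inW y) = 1 →
    APair (wp x) y := by decide +kernel

theorem common_sing : ∀ v : V, q v = 1 → bil a0 v = 1 → ∃ e, q e = 0 ∧ e ≠ 0 ∧ bil a0 e = 0 ∧ bil v e = 0 := by
  decide +kernel

theorem move_e0 {e : V} (he : q e = 0) (he0 : e ≠ 0) : ∃ f, IsOm f ∧ f e = e0 := by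
  obtain ⟨a, ha, b, hb, hab⟩ := move_sing e he he0
  refine ⟨fun x => tr b (tr a x), isOm_tr_tr hb ha, ?_⟩
  show tr b (tr a e) = e0
  rw [← hab, tr_tr a _ ha, tr_tr b _ hb]

theorem sg_e0 : ∀ w : W, sg e0 (inW w) e0 = e0 := by decide +kernel

theorem w_partner : ∀ a : W, q (inW a) = 1 → ∃ v, APair a v := by decide +kernel

theorem inW_a0 : inW (wp a0) = a0 ∧ inW (wp v0) = v0 := by decide +kernel

/-- An element fixing `e₀` moving an anisotropic vector orthogonal to `e₀` to `a₀`. -/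
theorem one_move {a : V} (ha : q a = 1) (hae : bil a e0 = 0) : ∃ f, IsOm f ∧ f e0 = e0 ∧ f a = a0 := by
  obtain ⟨k, hk, k0, ka⟩ : ∃ k, IsOm k ∧ k e0 = e0 ∧ k a = inW (wp a) := by
    rcases to_w a ha hae with e | ⟨w, hw⟩
    · exact ⟨fun x => x, isOm_id, rfl, e⟩
    · exact ⟨_, isOm_sg w, sg_e0 w, hw⟩
  obtain ⟨v, hv⟩ := w_partner (wp a) (by rw [← q_wp a hae, ha])
  obtain ⟨f, hf, f0', fa, -⟩ := pair_move hv
  refine ⟨fun x => f (k x), hf.comp hk, by show f (k e0) = e0; rw [k0, f0'], ?_⟩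
  show f (k a) = a0
  rw [ka, fa, inW_a0.1]

theorem sg_v0 : ∀ v : V, q v = 1 → bil v e0 = 0 → bil a0 v = 1 → v = inW (wp v) ∨
    ∃ w : W, sg e0 (inW w) v = inW (wp v) ∧ sg e0 (inW w) a0 = a0 := by decide +kernel

theorem IsOm.bil_eq' {f : V → V} (hf : IsOm f) (u v : V) : bil (f u) (f v) = bil u v := by
  obtain ⟨g, -, rfl⟩ := hf
  have h7 := app_q g (u + v)
  rw [app_add, q_add, app_q, app_q, q_add] at h7
  exact add_left_cancel h7

theorem IsOm.q_eq' {f : V → V} (hf : IsOm f) (v : V) : q (f v) = q v := by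
  obtain ⟨g, -, rfl⟩ := hf
  exact app_q g v

/-- Every anisotropic pair moves to the standard one. -/
theorem pair_to {a v : V} (ha : q a = 1) (hv : q v = 1) (hav : bil a v = 1) :
    ∃ f, IsOm f ∧ f a = a0 ∧ f v = v0 := by
  obtain ⟨e, he, he0, hae⟩ := exists_sing_perp a ha
  obtain ⟨k1, hk1, k1e⟩ := move_e0 he he0
  obtain ⟨k2, hk2, k2e, k2a⟩ := one_move (a := k1 a) (by rw [IsOm.q_eq' hk1, ha])
    (by rw [← k1e, IsOm.bil_eq' hk1, hae])
  set v' := k2 (k1 v) with hv'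
  have hb : bil a0 v' = 1 := by rw [← k2a, IsOm.bil_eq' hk2, IsOm.bil_eq' hk1, hav]
  have hq' : q v' = 1 := by rw [hv', IsOm.q_eq' hk2, IsOm.q_eq' hk1, hv]
  obtain ⟨e', he', he'0, hae', hve'⟩ := common_sing _ hq' hb
  obtain ⟨k3, hk3, k3e⟩ := move_e0 he' he'0
  obtain ⟨k4, hk4, k4e, k4a⟩ := one_move (a := k3 a0) (by rw [IsOm.q_eq' hk3, plane_facts.1])
    (by rw [← k3e, IsOm.bil_eq' hk3, hae'])
  set w := k4 (k3 v') with hw
  have hwe : bil w e0 = 0 := by rw [← k4e, IsOm.bil_eq' hk4, ← k3e, IsOm.bil_eq' hk3, hve']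
  have hwa : bil a0 w = 1 := by rw [← k4a, IsOm.bil_eq' hk4, IsOm.bil_eq' hk3, hb]
  have hwq : q w = 1 := by rw [hw, IsOm.q_eq' hk4, IsOm.q_eq' hk3, hq']
  obtain ⟨k5, hk5, k5e, k5a, k5w⟩ : ∃ k, IsOm k ∧ k e0 = e0 ∧ k a0 = a0 ∧ k w = inW (wp w) := by
    rcases sg_v0 w hwq hwe hwa with e | ⟨t, h1, h2⟩
    · exact ⟨fun x => x, isOm_id, rfl, rfl, e⟩
    · exact ⟨_, isOm_sg t, sg_e0 t, h2, h1⟩
  have hp : APair (wp a0) (wp w) := ⟨pair0.1, by rw [← q_wp w hwe, hwq], by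
    rw [← bil_wp a0 w (by decide +kernel) hwe, hwa]⟩
  obtain ⟨k6, hk6, -, k6a, k6w⟩ := pair_move hp
  refine ⟨fun x => k6 (k5 (k4 (k3 (k2 (k1 x))))),
    hk6.comp (hk5.comp (hk4.comp (hk3.comp (hk2.comp hk1)))), ?_, ?_⟩
  · show k6 (k5 (k4 (k3 (k2 (k1 a))))) = a0
    rw [k2a, k4a, k5a, ← inW_a0.1, k6a]
  · show k6 (k5 (k4 (k3 (k2 (k1 v))))) = v0
    rw [← hv', ← hw, k5w, k6w, inW_a0.2]

end Cfsg.Agent.SuzY
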